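import Mathlib
import Cfsg.Agent.H3.Nilp
import Cfsg.Agent.H1.SZ3

set_option autoImplicit false

/-! Hall subgroups and normal complements. -/

namespace CfsgH3

open Subgroup
open scoped commutatorElement Pointwise

universe u
variable {G : Type u} [Group G] {p : ℕ}

/-- a Sylow subgroup of a Hall subgroup (with `p` dividing its order) is a Sylow subgroup of the group -/
theorem exists_sylow_of_hall [Finite G] [hp : Fact p.Prime] (H : Subgroup G) 
    (hHall : Nat.Coprime (Nat.card H) H.index) (Q : Sylow p H) (hpd : p ∣ Nat.card H := by assumption) :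
    ∃ P : Sylow p G, (P : Subgroup G) = (Q : Subgroup H).map H.subtype := by
  set Q' : Subgroup G := (Q : Subgroup H).map H.subtype with hQ'
  have hQ'H : Q' ≤ H := by rintro _ ⟨y, -, rfl⟩; exact y.2
  have hQp : IsPGroup p Q' := Q.2.map _
  have hidx : ¬ p ∣ Q'.index := by
    have h1 : Q'.index = Q'.relIndex H * H.index := (Subgroup.relIndex_mul_index hQ'H).symm
    rw [h1]
    intro h
    rcases (Nat.Prime.dvd_mul hp.out).1 h with h | h
    · have h2 : Q'.relIndex H = (Q : Subgroup H).index := by
        unfold Subgroup.relIndex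
        congr 1
        rw [hQ', Subgroup.subgroupOf, Subgroup.comap_map_eq_self_of_injective H.subtype_injective]
      rw [h2] at h
      exact Q.not_dvd_index h
    · exact (Nat.Prime.coprime_iff_not_dvd hp.out).1 (Nat.Coprime.coprime_dvd_left hpd hHall) h
  exact ⟨hQp.toSylow hidx, rfl⟩

/-- if `G` has a normal `p`-complement for every prime dividing the order of the Hall subgroup `H` then `H` has
a normal complement -/
theorem exists_complement_of_npc [Finite G] (H : Subgroup G) (hHall : Nat.Coprime (Nat.card H) H.index)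
    (h : ∀ p : ℕ, p.Prime → p ∣ Nat.card H → HasNPC p G) :
    ∃ N : Subgroup G, N.Normal ∧ N.IsComplement' H := by
  classical
  let N : Subgroup G := ⨅ p : {p : ℕ // p.Prime ∧ p ∣ Nat.card H}, Cfsg.pResidual p G
  have hN : N.Normal := Subgroup.normal_iInf_normal (fun p => pResidual_normal' p.1 G)
  refine ⟨N, hN, ?_⟩
  have hcop : Nat.Coprime (Nat.card N) (Nat.card H) := by
    rw [Nat.coprime_comm]
    apply Nat.Coprime.symm
    apply Nat.coprime_of_dvd
    intro q hq hqN hqH
    haveI : Fact q.Prime := ⟨hq⟩
    have h1 : Nat.card N ∣ Nat.card (Cfsg.pResidual q G) :=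
      Subgroup.card_dvd_of_le (iInf_le (fun p : {p : ℕ // p.Prime ∧ p ∣ Nat.card H} => Cfsg.pResidual p G) ⟨q, hq, hqH⟩)
    have h2 := (hasNPC_iff_card (p := q)).1 (h q hq hqH)
    exact (Nat.Prime.coprime_iff_not_dvd hq).1 h2.symm (hqN.trans h1)
  have hidx : Nat.Coprime N.index H.index := by
    apply Nat.coprime_of_dvd
    intro q hq hqN hqH
    haveI : Fact q.Prime := ⟨hq⟩
    have hqc : ¬ q ∣ Nat.card H := by
      intro h1
      exact (Nat.Prime.coprime_iff_not_dvd hq).1 (Nat.Coprime.coprime_dvd_left h1 hHall) hqH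
    obtain ⟨S⟩ : Nonempty (Sylow q G) := inferInstance
    have hSN : (S : Subgroup G) ≤ N := by
      apply le_iInf
      rintro ⟨p, hp, hpH⟩
      intro s hs
      apply mem_pResidual
      obtain ⟨k, hk⟩ := (IsPGroup.iff_orderOf.1 S.2) ⟨s, hs⟩
      rw [Subgroup.orderOf_mk] at hk
      change (orderOf s).Coprime p
      rw [hk]
      apply Nat.Coprime.pow_left
      rw [Nat.coprime_primes hq hp]
      rintro rfl
      exact hqc hpH
    exact S.not_dvd_index (hqN.trans (Subgroup.index_dvd_of_le hSN))
  have e1 : Nat.card N * N.index = Nat.card G := Subgroup.card_mul_index N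
  have e2 : Nat.card H * H.index = Nat.card G := Subgroup.card_mul_index H
  have e3 : Nat.card H = N.index := by
    apply Nat.dvd_antisymm
    · apply hcop.symm.dvd_of_dvd_mul_left
      rw [e1, ← e2]; exact dvd_mul_right _ _
    · apply hidx.dvd_of_dvd_mul_right
      rw [e2, ← e1]; exact dvd_mul_left _ _
  apply Subgroup.isComplement'_of_coprime
  · rw [e3]; exact e1
  · exact hcop

theorem hall_burnside_aux (n : ℕ) : ∀ (G : Type u) [Group G] [Finite G], Nat.card G = n →
    ∀ H : Subgroup G, Nat.Coprime (Nat.card H) H.index →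
    normalizer (H : Set G) ≤ centralizer (H : Set G) → ∃ N : Subgroup G, N.Normal ∧ N.IsComplement' H := by
  induction n using Nat.strong_induction_on with
  | _ n ih =>
  intro G _ _ hn H hHall hNC
  have hHcomm : ∀ a ∈ H, ∀ b ∈ H, a * b = b * a := by
    intro a ha b hb
    exact ((Subgroup.mem_centralizer_iff.1 (hNC (Subgroup.le_normalizer ha))) b hb).symm
  have hHc : H ≤ centralizer (H : Set G) := Subgroup.le_normalizer.trans hNC
  -- restriction to a proper subgroup containing H
  have hres : ∀ L : Subgroup G, H ≤ L → L ≠ ⊤ → ∃ K : Subgroup L, K.Normal ∧ K.IsComplement' (H.subgroupOf L) := by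
    intro L hHL hL
    have hlt : Nat.card L < n := by
      rw [← hn]
      have := card_lt_card_of_lt (lt_top_iff_ne_top.2 hL)
      rwa [Subgroup.card_top] at this
    apply ih (Nat.card L) hlt L rfl (H.subgroupOf L)
    · rw [Nat.card_congr (Subgroup.subgroupOfEquivOfLe hHL).toEquiv]
      change Nat.Coprime _ (H.relIndex L)
      exact Nat.Coprime.coprime_dvd_right (Dvd.intro _ (Subgroup.relIndex_mul_index hHL)) hHall
    · intro x hx
      rw [Subgroup.mem_centralizer_iff]
      intro y hy
      apply Subtype.ext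
      have hxN : (x : G) ∈ normalizer (H : Set G) := by
        rw [Subgroup.mem_normalizer_iff] at hx ⊢
        intro z
        constructor
        · intro hz
          exact (hx ⟨z, hHL hz⟩).1 hz
        · intro hz
          have hzL : z ∈ L := by
            have : z = (x : G)⁻¹ * ((x : G) * z * (x : G)⁻¹) * x := by group
            rw [this]
            exact mul_mem (mul_mem (inv_mem x.2) (hHL hz)) x.2
          exact (hx ⟨z, hzL⟩).2 hz
      exact (Subgroup.mem_centralizer_iff.1 (hNC hxN)) y hy
  apply exists_complement_of_npc H hHall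
  intro p hp hpd
  haveI : Fact p.Prime := ⟨hp⟩
  obtain ⟨Q⟩ : Nonempty (Sylow p H) := inferInstance
  obtain ⟨P, hP⟩ := exists_sylow_of_hall H hHall Q
  have hPH : (P : Subgroup G) ≤ H := by rw [hP]; rintro _ ⟨y, -, rfl⟩; exact y.2
  have hHNP : H ≤ normalizer ((P : Subgroup G) : Set G) := by
    intro x hx
    rw [Subgroup.mem_normalizer_iff]
    intro z
    have key : ∀ z ∈ H, x * z * x⁻¹ = z := fun z hz => by rw [hHcomm x hx z hz]; group
    constructor
    · intro hz; rw [key z (hPH hz)]; exact hz
    · intro hz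
      have h1 := key _ (hPH hz)
      have h2 : x * z * x⁻¹ = z := mul_left_cancel (mul_right_cancel h1)
      rwa [h2] at hz
  apply hasNPC_burnside P
  by_cases hL : normalizer ((P : Subgroup G) : Set G) = ⊤
  · -- P is normal
    have hPn : (P : Subgroup G).Normal := Subgroup.normalizer_eq_top_iff.1 hL
    by_cases hC : centralizer ((P : Subgroup G) : Set G) = ⊤
    · intro x _
      change x ∈ centralizer ((P : Subgroup G) : Set G)
      rw [hC]; trivial
    · exfalso
      set C := centralizer ((P : Subgroup G) : Set G) with hCdef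
      have hHC : H ≤ C := hHc.trans (Subgroup.centralizer_le (SetLike.coe_subset_coe.2 hPH))
      haveI hCn : C.Normal := by rw [hCdef]; infer_instance
      obtain ⟨K, hKn, hKc⟩ := hres C hHC hC
      set K' : Subgroup G := K.map C.subtype with hK'
      have hK'C : K' ≤ C := by rintro _ ⟨y, -, rfl⟩; exact y.2
      have hKcard : Nat.card K' = Nat.card K := Subgroup.card_map_of_injective C.subtype_injective
      have hHcard : Nat.card (H.subgroupOf C) = Nat.card H := Nat.card_congr (Subgroup.subgroupOfEquivOfLe hHC).toEquiv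
      have hcopK : (Nat.card K).Coprime (Nat.card H) := by
        rw [← hKc.index_eq_card]
        change Nat.Coprime (H.relIndex C) _
        exact Nat.Coprime.coprime_dvd_left (Dvd.intro _ (Subgroup.relIndex_mul_index hHC)) hHall.symm
      have hK'conjC : ∀ c ∈ C, ∀ m ∈ K', c * m * c⁻¹ ∈ K' := by
        rintro c hc _ ⟨m, hm, rfl⟩
        exact ⟨⟨c, hc⟩ * m * ⟨c, hc⟩⁻¹, hKn.conj_mem m hm ⟨c, hc⟩, rfl⟩
      have hCK' : C ≤ normalizer (K' : Set G) := by
        intro c hc
        rw [Subgroup.mem_normalizer_iff]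
        intro m
        refine ⟨hK'conjC c hc m, fun h => ?_⟩
        have := hK'conjC c⁻¹ (inv_mem hc) _ h
        simpa [mul_assoc] using this
      -- every element of C of order prime to |H| lies in K'
      have hKchar : ∀ c ∈ C, (orderOf c).Coprime (Nat.card H) → c ∈ K' := by
        intro c hc hcc
        have h1 : ((⟨c, hc⟩ : C) : C ⧸ K) ^ (orderOf c) = 1 := by
          rw [← QuotientGroup.mk_pow]
          have : (⟨c, hc⟩ : C) ^ orderOf c = 1 := Subtype.ext (pow_orderOf_eq_one c)
          rw [this, QuotientGroup.mk_one]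
        have h2 : ((⟨c, hc⟩ : C) : C ⧸ K) ^ (Nat.card H) = 1 := by
          have h3 : Nat.card (C ⧸ K) = Nat.card H := by
            rw [← hHcard]; exact hKc.symm.index_eq_card
          rw [← h3]; exact pow_card_eq_one'
        have h3 : orderOf ((⟨c, hc⟩ : C) : C ⧸ K) = 1 :=
          Nat.Coprime.eq_one_of_dvd (Nat.Coprime.coprime_dvd_left (orderOf_dvd_of_pow_eq_one h1) hcc)
            (orderOf_dvd_of_pow_eq_one h2)
        rw [orderOf_eq_one_iff, QuotientGroup.eq_one_iff] at h3
        exact ⟨_, h3, rfl⟩
      have hK'n : K'.Normal := by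
        refine ⟨fun k hk g => ?_⟩
        apply hKchar _ (hCn.conj_mem k (hK'C hk) g)
        rw [orderOf_conj]
        have h1 : orderOf k ∣ Nat.card K' := by
          have := orderOf_dvd_natCard (⟨k, hk⟩ : K')
          rwa [Subgroup.orderOf_mk] at this
        rw [hKcard] at h1
        exact Nat.Coprime.coprime_dvd_left h1 hcopK
      have hsup : K' ⊔ H = C := by
        have h1 := congrArg (Subgroup.map C.subtype) hKc.sup_eq_top
        rw [Subgroup.map_sup, ← MonoidHom.range_eq_map, Subgroup.range_subtype, Subgroup.subgroupOf_map_subtype,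
          inf_eq_left.2 hHC] at h1
        exact h1
      apply hC
      rw [eq_top_iff]
      intro g _
      -- H^g is also a complement of K' in C
      set Hg : Subgroup G := MulAut.conj g • H with hHg
      have hHgC : Hg ≤ C := by
        intro x hx
        rw [hHg, mem_conj_smul_iff] at hx
        have := hCn.conj_mem _ (hHC hx) g
        simpa [mul_assoc] using this
      have hHgcard : Nat.card Hg = Nat.card H := by
        rw [hHg]; exact CfsgH1.card_conj_smul g H
      have hd : K' ⊓ Hg = ⊥ := by
        apply CfsgH1.inf_eq_bot_of_coprime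
        rw [hKcard, hHgcard]; exact hcopK
      have hsup2 : K' ⊔ Hg = C := by
        have h1 : MulAut.conj g • (K' ⊔ H) = MulAut.conj g • C := by rw [hsup]
        have e1 : MulAut.conj g • K' = K' := by
          haveI := hK'n
          exact CfsgH1.conj_smul_of_normal (H := K') g
        have e2 : MulAut.conj g • C = C := CfsgH1.conj_smul_of_normal (H := C) g
        rw [CfsgH1.conj_smul_sup, e1, e2] at h1
        exact h1
      have hHsolv : Group.IsSolvable H := Group.isSolvable_of_comm (fun a b => Subtype.ext (hHcomm a a.2 b b.2))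
      obtain ⟨k, hk, hkH⟩ := CfsgH1.sz_conj_internal (N := K') (H := H) (K := Hg)
        (by rw [Subgroup.normalizer_eq_top_iff.2 hK'n]; exact le_top)
        (by rw [Subgroup.normalizer_eq_top_iff.2 hK'n]; exact le_top)
        (by rw [hKcard]; exact hcopK) (Or.inr hHsolv) (by rw [hsup, hsup2]) hd
      -- g⁻¹ k normalizes H
      have h1 : k⁻¹ * g ∈ normalizer (H : Set G) := by
        rw [Subgroup.mem_normalizer_iff]
        intro z
        have h2 : z ∈ H ↔ g * z * g⁻¹ ∈ Hg := by
          rw [hHg, mem_conj_smul_iff]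
          have e : g⁻¹ * (g * z * g⁻¹) * g = z := by group
          rw [e]
        rw [h2, ← hkH, mem_conj_smul_iff]
        have e : k⁻¹ * (g * z * g⁻¹) * k = k⁻¹ * g * z * (k⁻¹ * g)⁻¹ := by group
        rw [e]
      have h2 : k⁻¹ * g ∈ C := (Subgroup.centralizer_le (SetLike.coe_subset_coe.2 hPH)) (hNC h1)
      have h3 : g = k * (k⁻¹ * g) := by group
      rw [h3]
      exact mul_mem (hK'C hk) h2
  · set L := normalizer ((P : Subgroup G) : Set G) with hLdef
    obtain ⟨K, hKn, hKc⟩ := hres L hHNP hL
    have hPL : (P : Subgroup G) ≤ L := Subgroup.le_normalizer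
    haveI hPn : ((P : Subgroup G).subgroupOf L).Normal := by rw [hLdef]; infer_instance
    have hdisj : Disjoint K ((P : Subgroup G).subgroupOf L) := by
      apply Disjoint.mono_right _ hKc.disjoint
      exact Subgroup.comap_mono hPH
    intro x hx
    change x ∈ centralizer ((P : Subgroup G) : Set G)
    have hxL : x ∈ L := hx
    obtain ⟨⟨k, h⟩, hkh⟩ := hKc.2 (⟨x, hxL⟩ : L)
    simp only at hkh
    have hx' : x = (k : L) * ((h : L) : G) := (congrArg Subtype.val hkh).symm
    rw [hx']
    apply mul_mem
    · rw [Subgroup.mem_centralizer_iff]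
      intro y hy
      have hyL : y ∈ L := hPL hy
      have h1 : (k : L) * ⟨y, hyL⟩ * (k : L)⁻¹ * (⟨y, hyL⟩ : L)⁻¹ = 1 := by
        apply Subgroup.disjoint_def.1 hdisj
        · have h3 : (⟨y, hyL⟩ : L) * (k : L)⁻¹ * (⟨y, hyL⟩ : L)⁻¹ ∈ K := hKn.conj_mem _ (inv_mem k.2) _
          have h4 := mul_mem k.2 h3
          have e : (k : L) * ((⟨y, hyL⟩ : L) * (k : L)⁻¹ * (⟨y, hyL⟩ : L)⁻¹) = (k : L) * ⟨y, hyL⟩ * (k : L)⁻¹ * (⟨y, hyL⟩ : L)⁻¹ := by group
          rwa [e] at h4
        · exact mul_mem (hPn.conj_mem ⟨y, hyL⟩ hy _) (inv_mem (show (⟨y, hyL⟩ : L) ∈ (P : Subgroup G).subgroupOf L from hy))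
      have h5 := congrArg Subtype.val h1
      simp only [Subgroup.coe_mul, Subgroup.coe_inv, Subgroup.coe_one] at h5
      rw [mul_inv_eq_one, mul_inv_eq_iff_eq_mul] at h5
      exact h5.symm
    · have h1 : ((h : L) : G) ∈ H := h.2
      exact (Subgroup.centralizer_le (SetLike.coe_subset_coe.2 hPH)) (hHc h1)

theorem hall_burnside [Finite G] (H : Subgroup G) (hHall : Nat.Coprime (Nat.card H) H.index)
    (h : normalizer (H : Set G) ≤ centralizer (H : Set G)) : ∃ N : Subgroup G, N.Normal ∧ N.IsComplement' H :=
  hall_burnside_aux _ G rfl H hHall h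

end CfsgH3
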