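import Mathlib
import Cfsg.Prelude.Def_OddOrderLocal
import Cfsg.Agent.H2.Fitting
import Cfsg.Agent.H1.MinNormal
import Cfsg.Agent.H1.Syl
import Cfsg.Agent.H3.Cores2

set_option autoImplicit false

/-!
The largest normal nilpotent Hall subgroup.
-/

namespace CfsgH3

open Subgroup Cfsg

universe u

variable {G : Type u} [Group G]

theorem fittingHall_le : fittingHall G ≤ fittingSubgroup G :=
  sSup_le fun _ h => CfsgH2.le_fittingSubgroup h.1 h.2.1

theorem hall_sup [Finite G] {A B : Subgroup G} [A.Normal] [B.Normal] (hA : (Nat.card A).Coprime A.index)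
    (hB : (Nat.card B).Coprime B.index) : (Nat.card ↥(A ⊔ B)).Coprime (A ⊔ B).index := by
  apply Nat.Coprime.symm
  apply Nat.coprime_of_dvd
  intro p hp h1 h2
  have h3 : Nat.card ↥(A ⊔ B) ∣ Nat.card A * Nat.card B := by
    have := CfsgH1.card_sup_mul_card_inf (H := A) (K := B) (by rw [Subgroup.normalizer_eq_top_iff.2 (inferInstance : B.Normal)]; exact le_top)
    exact ⟨_, this.symm⟩
  rcases (Nat.Prime.dvd_mul hp).1 (h2.trans h3) with h4 | h4
  · have h5 : p ∣ A.index := h1.trans (Subgroup.index_dvd_of_le le_sup_left)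
    exact hp.one_lt.ne' (Nat.dvd_one.1 (hA ▸ Nat.dvd_gcd h4 h5))
  · have h5 : p ∣ B.index := h1.trans (Subgroup.index_dvd_of_le le_sup_right)
    exact hp.one_lt.ne' (Nat.dvd_one.1 (hB ▸ Nat.dvd_gcd h4 h5))

theorem le_fittingHall {N : Subgroup G} (h1 : N.Normal) (h2 : Group.IsNilpotent N) (h3 : (Nat.card N).Coprime N.index) :
    N ≤ fittingHall G := le_sSup ⟨h1, h2, h3⟩

theorem fittingHall_mem [Finite G] : fittingHall G ∈ {N : Subgroup G | N.Normal ∧ Group.IsNilpotent N ∧ (Nat.card N).Coprime N.index} := by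
  obtain ⟨N, hN, hmax⟩ := CfsgH1.exists_maximal_of_set {N : Subgroup G | N.Normal ∧ Group.IsNilpotent N ∧ (Nat.card N).Coprime N.index}
    ⟨⊥, inferInstance, inferInstance, by simp⟩
  have h : fittingHall G = N := by
    apply le_antisymm
    · apply sSup_le
      intro K hK
      haveI := hK.1
      haveI := hN.1
      have h1 : N ⊔ K ∈ {N : Subgroup G | N.Normal ∧ Group.IsNilpotent N ∧ (Nat.card N).Coprime N.index} := by
        refine ⟨inferInstance, ?_, hall_sup hN.2.2 hK.2.2⟩
        exact CfsgH1.isNilpotent_of_le CfsgH2.isNilpotent_fittingSubgroup (sup_le (CfsgH2.le_fittingSubgroup hN.1 hN.2.1) (CfsgH2.le_fittingSubgroup hK.1 hK.2.1))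
      have h2 := hmax _ h1 le_sup_left
      rw [← h2]
      exact le_sup_right
    · exact le_sSup hN
  rw [h]
  exact hN

theorem fittingHall_nilpotent [Finite G] : Group.IsNilpotent (fittingHall G) := fittingHall_mem.2.1

theorem fittingHall_coprime [Finite G] : (Nat.card (fittingHall G)).Coprime (fittingHall G).index := fittingHall_mem.2.2

theorem fittingHallOf_le (M : Subgroup G) : fittingHallOf M ≤ M := Subgroup.map_subtype_le _

theorem fittingOf_le (M : Subgroup G) : fittingOf M ≤ M := Subgroup.map_subtype_le _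

theorem card_fittingHallOf (M : Subgroup G) : Nat.card (fittingHallOf M) = Nat.card (fittingHall M) :=
  (Nat.card_congr ((fittingHall M).equivMapOfInjective M.subtype M.subtype_injective).toEquiv).symm

theorem relIndex_fittingHallOf (M : Subgroup G) : (fittingHallOf M).relIndex M = (fittingHall M).index := by
  rw [Subgroup.relIndex, fittingHallOf, Subgroup.subgroupOf, Subgroup.comap_map_eq_self_of_injective M.subtype_injective]

theorem fittingHallOf_coprime [Finite G] (M : Subgroup G) :
    (Nat.card (fittingHallOf M)).Coprime ((fittingHallOf M).relIndex M) := by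
  rw [card_fittingHallOf, relIndex_fittingHallOf]
  exact fittingHall_coprime

theorem le_normalizer_fittingHallOf (M : Subgroup G) : M ≤ normalizer (fittingHallOf M : Set G) := by
  intro m hm
  rw [mem_normalizer_iff]
  have key : ∀ g ∈ M, ∀ x ∈ fittingHallOf M, g * x * g⁻¹ ∈ fittingHallOf M := by
    rintro g hg _ ⟨x, hx, rfl⟩
    exact ⟨_, (fittingHall_normal M).conj_mem x hx ⟨g, hg⟩, rfl⟩
  intro x
  constructor
  · exact key m hm x
  · intro h
    have := key m⁻¹ (M.inv_mem hm) _ h
    have h2 : m⁻¹ * (m * x * m⁻¹) * m⁻¹⁻¹ = x := by group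
    rwa [h2] at this

theorem le_fittingHallOf (M : Subgroup G) {N : Subgroup G} (hNM : N ≤ M) (h1 : M ≤ normalizer (N : Set G))
    (h2 : Group.IsNilpotent N) (h3 : (Nat.card N).Coprime (N.relIndex M)) : N ≤ fittingHallOf M := by
  have h4 : N.subgroupOf M ≤ fittingHall M := by
    apply le_fittingHall
    · exact Subgroup.normal_subgroupOf_of_le_normalizer h1
    · haveI := h2
      exact Group.nilpotent_of_mulEquiv (Subgroup.subgroupOfEquivOfLe hNM).symm
    · rw [Nat.card_congr (Subgroup.subgroupOfEquivOfLe hNM).toEquiv]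
      exact h3
  rw [← Subgroup.map_subgroupOf_eq_of_le hNM]
  exact Subgroup.map_mono h4

/-- the order formula for complements in a subgroup -/
theorem complIn_card_mul [Finite G] {A B M : Subgroup G} (h : IsComplIn A B M) : Nat.card A * Nat.card B = Nat.card M := by
  rw [← Nat.card_prod]
  refine Nat.card_congr (Equiv.ofBijective (fun p : A × B => (⟨(p.1 : G) * p.2, M.mul_mem (h.1 p.1.2) (h.2.1 p.2.2)⟩ : M)) ⟨?_, ?_⟩)
  · rintro ⟨a, b⟩ ⟨a', b'⟩ hab
    have h1 : (a : G) * b = a' * b' := congrArg Subtype.val hab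
    have h2 : (a' : G)⁻¹ * a = b' * (b : G)⁻¹ := by
      have : (a' : G)⁻¹ * (a * b) * (b : G)⁻¹ = (a' : G)⁻¹ * (a' * b') * (b : G)⁻¹ := by rw [h1]
      calc (a' : G)⁻¹ * a = (a' : G)⁻¹ * (a * b) * (b : G)⁻¹ := by group
        _ = _ := this
        _ = _ := by group
    have h3 : (a' : G)⁻¹ * a ∈ A ⊓ B := Subgroup.mem_inf.2 ⟨A.mul_mem (A.inv_mem a'.2) a.2, by rw [h2]; exact B.mul_mem b'.2 (B.inv_mem b.2)⟩
    rw [h.2.2.1, mem_bot] at h3
    have h4 : (a : G) = a' := (inv_mul_eq_one.1 h3).symm
    rw [h3] at h2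
    have h5 : (b' : G) = b := (mul_inv_eq_one.1 h2.symm)
    exact Prod.ext (Subtype.ext h4) (Subtype.ext h5.symm)
  · rintro ⟨m, hm⟩
    obtain ⟨a, ha, b, hb, hab⟩ := h.2.2.2 m hm
    exact ⟨(⟨a, ha⟩, ⟨b, hb⟩), Subtype.ext hab.symm⟩

theorem complIn_relIndex_left [Finite G] {A B M : Subgroup G} (h : IsComplIn A B M) : A.relIndex M = Nat.card B := by
  have h1 := complIn_card_mul h
  have h2 := Subgroup.card_mul_index (A.subgroupOf M)
  rw [Nat.card_congr (Subgroup.subgroupOfEquivOfLe h.1).toEquiv, ← h1] at h2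
  exact Nat.eq_of_mul_eq_mul_left Nat.card_pos h2

theorem complIn_relIndex_right [Finite G] {A B M : Subgroup G} (h : IsComplIn A B M) : B.relIndex M = Nat.card A := by
  have h1 := complIn_card_mul h
  have h2 := Subgroup.card_mul_index (B.subgroupOf M)
  rw [Nat.card_congr (Subgroup.subgroupOfEquivOfLe h.2.1).toEquiv, ← h1, mul_comm] at h2
  exact Nat.eq_of_mul_eq_mul_right Nat.card_pos h2

end CfsgH3

namespace CfsgH3

open Subgroup

theorem cyclic_subgroup_mem {C : Type*} [Group C] [Finite C] [IsCyclic C] (A : Subgroup C) (x : C) :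
    x ∈ A ↔ x ^ Nat.card A = 1 := by
  classical
  haveI := Fintype.ofFinite C
  constructor
  · intro hx
    have := pow_card_eq_one' (x := (⟨x, hx⟩ : A))
    exact congrArg Subtype.val this
  · intro hx
    have h1 := IsCyclic.card_pow_eq_one_le (α := C) (n := Nat.card A) Nat.card_pos
    have h2 : (Finset.univ.filter (fun y : C => y ∈ A)) = Finset.univ.filter (fun y : C => y ^ Nat.card A = 1) := by
      apply Finset.eq_of_subset_of_card_le
      · intro y hy
        rw [Finset.mem_filter] at hy ⊢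
        refine ⟨Finset.mem_univ _, ?_⟩
        have := pow_card_eq_one' (x := (⟨y, hy.2⟩ : A))
        exact congrArg Subtype.val this
      · refine h1.trans (le_of_eq ?_)
        rw [← Fintype.card_subtype, Nat.card_eq_fintype_card]
    have h3 : x ∈ Finset.univ.filter (fun y : C => y ^ Nat.card A = 1) := Finset.mem_filter.2 ⟨Finset.mem_univ _, hx⟩
    rw [← h2] at h3
    exact (Finset.mem_filter.1 h3).2

theorem cyclic_subgroup_eq {C : Type*} [Group C] [Finite C] [IsCyclic C] (A B : Subgroup C)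
    (h : Nat.card A = Nat.card B) : A = B := by
  ext x
  rw [cyclic_subgroup_mem, cyclic_subgroup_mem, h]

end CfsgH3
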