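import Mathlib
import Cfsg.Agent.H2.CycSyl
import Cfsg.Agent.H2.GenFitting2
import Cfsg.Agent.H2.PConstrained
import Cfsg.Agent.H2.PLayer
import Cfsg.Agent.H3.FitHall
import Cfsg.Agent.H3.NPC2
import Cfsg.Agent.H3.SylNum

set_option autoImplicit false

/-!
Groups with cyclic Sylow `p`-subgroups and trivial `p'`-core.
-/

namespace CfsgH3

open Subgroup Cfsg

open scoped Pointwise commutatorElement

theorem perf_npc {X : Type*} [Group X] [Finite X] {p : ℕ} [hp : Fact p.Prime] (hperf : commutator X = ⊤) (h : HasNPC p X) : 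
    ¬ p ∣ Nat.card X := by
  obtain ⟨N, hN, hNc, k, hk⟩ := h
  have hNt : N = ⊤ := by
    by_contra hne
    haveI : Nontrivial (X ⧸ N) := by
      rw [← not_subsingleton_iff_nontrivial]
      intro h1
      exact hne (QuotientGroup.subgroup_eq_top_of_subsingleton N h1)
    have hQ : IsPGroup p (X ⧸ N) := IsPGroup.iff_card.2 ⟨k, hk⟩
    haveI := hQ.isNilpotent
    have h1 := (Group.IsSolvable.commutator_lt_top_of_nontrivial (X ⧸ N)).ne
    apply h1
    rw [_root_.commutator_def, ← Subgroup.map_top_of_surjective (QuotientGroup.mk' N) (QuotientGroup.mk'_surjective N), 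
      ← Subgroup.map_commutator, ← _root_.commutator_def, hperf]
  rw [hNt, Subgroup.card_top] at hNc
  intro h1
  have := Nat.dvd_gcd h1 (dvd_refl p)
  rw [hNc] at this
  exact hp.out.one_lt.ne' (Nat.dvd_one.1 this)

theorem cyclic_inf_ne_bot {G : Type*} [Group G] [Finite G] {p : ℕ} [hp : Fact p.Prime] {P A B : Subgroup G} (hP : IsPGroup p P) (hc : IsCyclic P) 
    (hA : A ≤ P) (hB : B ≤ P) (hA1 : A ≠ ⊥) (hB1 : B ≠ ⊥) : A ⊓ B ≠ ⊥ := by
  have key : ∀ A : Subgroup G, A ≤ P → A ≠ ⊥ → ∃ C : Subgroup G, C ≤ A ∧ Nat.card C = p := by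
    intro A hA hA1
    obtain ⟨k, hk⟩ := IsPGroup.iff_card.1 (hP.to_le hA)
    have hk0 : k ≠ 0 := by
      rintro rfl
      rw [pow_zero, Subgroup.card_eq_one] at hk
      exact hA1 hk
    obtain ⟨a, ha⟩ := exists_prime_orderOf_dvd_card' (G := A) p (by rw [hk]; exact dvd_pow_self p hk0)
    exact ⟨zpowers (a : G), by rw [zpowers_le]; exact a.2, by rw [Nat.card_zpowers, Subgroup.orderOf_coe, ha]⟩
  obtain ⟨C, hCA, hC⟩ := key A hA hA1
  obtain ⟨D, hDB, hD⟩ := key B hB hB1
  have hCD : C.subgroupOf P = D.subgroupOf P := by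
    apply cyclic_subgroup_eq
    rw [Nat.card_congr (subgroupOfEquivOfLe (hCA.trans hA)).toEquiv, Nat.card_congr (subgroupOfEquivOfLe (hDB.trans hB)).toEquiv, hC, hD]
  have hCD' : C = D := by
    have := congrArg (Subgroup.map P.subtype) hCD
    rwa [Subgroup.map_subgroupOf_eq_of_le (hCA.trans hA), Subgroup.map_subgroupOf_eq_of_le (hDB.trans hB)] at this
  intro h
  have h1 : C ≤ A ⊓ B := le_inf hCA (hCD' ▸ hDB)
  rw [h, le_bot_iff] at h1
  rw [h1, Subgroup.card_bot] at hC
  exact hp.out.one_lt.ne hC

/-- cyclic Sylow subgroup meeting the centre: normal `p`-complement -/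
theorem npc_of_cyclic_center {E : Type*} [Group E] [Finite E] {p : ℕ} [hp : Fact p.Prime] (Q : Sylow p E) (hQ : IsCyclic (Q : Subgroup E)) 
    {x : E} (hx : x ∈ (Q : Subgroup E)) (hx1 : x ≠ 1) (hxc : x ∈ center E) : HasNPC p E := by
  apply hasNPC_burnside Q
  have hab : ∀ x ∈ (Q : Subgroup E), ∀ y ∈ (Q : Subgroup E), x * y = y * x := by
    intro x hx y hy
    have := (IsCyclic.commGroup (α := (Q : Subgroup E))).mul_comm ⟨x, hx⟩ ⟨y, hy⟩
    exact congrArg Subtype.val this
  intro g hg
  obtain ⟨a, ha, b, hb, hgab, hao, k, hbk⟩ := exists_pPart (p := p) g (orderOf_pos g).ne'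
  have haN : a ∈ normalizer ((Q : Subgroup E) : Set E) := (zpowers_le.2 hg) ha
  have hbN : b ∈ normalizer ((Q : Subgroup E) : Set E) := (zpowers_le.2 hg) hb
  have hbQ : b ∈ (Q : Subgroup E) := by
    have h1 : IsPGroup p (zpowers b) := by
      rintro ⟨y, hy⟩
      obtain ⟨j, rfl⟩ := hy
      refine ⟨k, Subtype.ext ?_⟩
      show (b ^ j) ^ p ^ k = 1
      rw [← zpow_natCast, ← zpow_mul, mul_comm, zpow_mul, zpow_natCast, hbk, one_zpow]
    have h2 : IsPGroup p (zpowers b ⊔ (Q : Subgroup E) : Subgroup E) := h1.to_sup_of_normal_right' Q.2 (by rw [zpowers_le]; exact hbN)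
    have h3 := Q.3 h2 le_sup_right
    rw [← h3]
    exact mem_sup_left (mem_zpowers b)
  have hac := CfsgH2.cyc_centralizes (V := (Q : Subgroup E)) Q.2 hQ hao haN hx hx1 (mem_center_iff.1 hxc a)
  rw [mem_centralizer_iff]
  intro v hv
  rw [hgab]
  calc v * (a * b) = (v * a) * b := by group
    _ = (a * v) * b := by rw [hac v hv]
    _ = a * (v * b) := by group
    _ = a * (b * v) := by rw [hab v hv b hbQ]
    _ = _ := by group

end CfsgH3

namespace CfsgH3

open Subgroup Cfsg

open scoped Pointwise commutatorElement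

section

variable {K : Type*} [Group K] [Finite K] {p : ℕ} [hp : Fact p.Prime]

theorem cyc_sylow_subgroup (P : Sylow p K) (hP : IsCyclic (P : Subgroup K)) (E : Subgroup K) (Q : Sylow p E) : IsCyclic (Q : Subgroup E) := by
  have h1 : IsPGroup p ((Q : Subgroup E).map E.subtype) := Q.2.map _
  obtain ⟨R, hR⟩ := h1.exists_le_sylow
  obtain ⟨g, hg⟩ := MulAction.exists_smul_eq K P R
  have hRc : IsCyclic (R : Subgroup K) := by
    rw [← hg]
    exact isCyclic_of_surjective (P.equivSMul g) (P.equivSMul g).surjective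
  have h2 : IsCyclic ((Q : Subgroup E).map E.subtype) := by
    exact isCyclic_of_injective (Subgroup.inclusion hR) (Subgroup.inclusion_injective hR)
  exact isCyclic_of_injective ((Q : Subgroup E).equivMapOfInjective E.subtype E.subtype_injective).toMonoidHom 
    ((Q : Subgroup E).equivMapOfInjective E.subtype E.subtype_injective).injective

theorem cyc_case_layer (hO : pPrimeCore p K = ⊥) (P : Sylow p K) (hP : IsCyclic (P : Subgroup K)) (hE : layer K ≠ ⊥) : 
    IsSimpleGroup ↥(generalizedFittingSubgroup K) ∧ ¬ IsMulCommutative ↥(generalizedFittingSubgroup K) ∧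
      ¬ p ∣ (generalizedFittingSubgroup K).index := by
  -- a component
  obtain ⟨L, hL⟩ : ∃ L : Subgroup K, IsComponent L := by
    by_contra h
    push Not at h
    apply hE
    unfold layer
    rw [sSup_eq_bot]
    intro L hL
    exact absurd hL (h L)
  have hLE := CfsgH2.IsComponent.le_layer hL
  have hperfE : commutator (layer K) = ⊤ := (CfsgH2.layer_isPerfect (G := K)).commutator_eq_top
  have hpL : ∀ L : Subgroup K, IsComponent L → p ∣ Nat.card L := fun L hL => CfsgH2.IsComponent.dvd_card_of_pPrimeCore_eq_bot hp.out hO hL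
  have hpE : p ∣ Nat.card (layer K) := (hpL L hL).trans (Subgroup.card_dvd_of_le hLE)
  have hEn : ¬ HasNPC p (layer K) := fun h => perf_npc hperfE h hpE
  have hLn : ∀ L : Subgroup K, IsComponent L → ¬ HasNPC p L := fun L hL h => perf_npc hL.2.1.commutator_eq_top h (hpL L hL)
  have hidx : ¬ p ∣ (layer K).index := fun h => hEn (CfsgH2.cyc_normal_npc P hP (layer K) h)
  obtain ⟨Q⟩ : Nonempty (Sylow p (layer K)) := inferInstance
  have hQ := cyc_sylow_subgroup P hP (layer K) Q
  -- trivial core
  have hcore : pCore p K = ⊥ := by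
    by_contra hV
    have hVp : IsPGroup p (pCore p K) := CfsgH2.isPGroup_pCore p
    have hVP : pCore p K ≤ P := IsPGroup.le_sylow_of_normal hVp P
    set T := (P : Subgroup K) ⊓ layer K with hT
    have hT1 : T ≠ ⊥ := by
      intro h
      have h2 := relIndex_dvd_index_of_normal_right (P : Subgroup K) (layer K)
      have h3 : (P : Subgroup K).relIndex (layer K) = Nat.card (layer K) := by
        rw [← Subgroup.inf_relIndex_right, ← hT, h, Subgroup.relIndex_bot_left]
      rw [h3] at h2
      exact P.not_dvd_index (hpE.trans h2)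
    obtain ⟨⟨x, hx⟩, hx1'⟩ := Subgroup.ne_bot_iff_exists_ne_one.1 (cyclic_inf_ne_bot P.2 hP hVP inf_le_left hV hT1)
    have hx1 : x ≠ 1 := fun h => hx1' (Subtype.ext h)
    have hxF : x ∈ fittingSubgroup K := by
      rw [CfsgH2.fittingSubgroup_eq_pCore_of_pPrimeCore_eq_bot hO]; exact hx.1
    have hxE : x ∈ layer K := hx.2.2
    have hxc : (⟨x, hxE⟩ : layer K) ∈ center (layer K) := by
      rw [mem_center_iff]
      intro y
      exact Subtype.ext (CfsgH2.commutator_eq_bot_iff_forall.mp (CfsgH2.commutator_layer_fittingSubgroup (G := K)) y y.2 x hxF)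
    -- a Sylow subgroup of the layer containing x
    have hxp : IsPGroup p (zpowers (⟨x, hxE⟩ : layer K)) := by
      have h4 : IsPGroup p ((pCore p K).subgroupOf (layer K)) := hVp.comap_subtype
      exact h4.to_le (by rw [zpowers_le, mem_subgroupOf]; exact hx.1)
    obtain ⟨Q', hQ'⟩ := hxp.exists_le_sylow
    exact hEn (npc_of_cyclic_center Q' (cyc_sylow_subgroup P hP (layer K) Q') (hQ' (mem_zpowers _)) (fun h => hx1 (congrArg Subtype.val h)) hxc)
  have hfit : fittingSubgroup K = ⊥ := by rw [CfsgH2.fittingSubgroup_eq_pCore_of_pPrimeCore_eq_bot hO, hcore]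
  -- unique component
  have huniq : ∀ L' : Subgroup K, IsComponent L' → L' = L := by
    intro L' hL'
    by_contra hne
    have hcomm := CfsgH2.IsComponent.commutator_eq_bot_of_ne hL' hL hne
    have key : ∀ L : Subgroup K, IsComponent L → (Q : Subgroup (layer K)) ≤ L.subgroupOf (layer K) := by
      intro L hL
      haveI := CfsgH2.IsComponent.normal_subgroupOf_layer hL
      apply sylow_le_of_not_dvd_index
      intro h
      have h1 := CfsgH2.cyc_normal_npc Q hQ (L.subgroupOf (layer K)) h
      have hLE := CfsgH2.IsComponent.le_layer hL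
      have hperf' : commutator (L.subgroupOf (layer K)) = ⊤ := by
        have e := subgroupOfEquivOfLe hLE
        haveI : Group.IsPerfect L := hL.2.1
        haveI : Group.IsPerfect (L.subgroupOf (layer K)) := Group.IsPerfect.ofSurjective (f := e.symm.toMonoidHom) e.symm.surjective
        exact Group.IsPerfect.commutator_eq_top
      apply perf_npc hperf' h1
      rw [Nat.card_congr (subgroupOfEquivOfLe hLE).toEquiv]
      exact hpL L hL
    have hQ1 : (Q : Subgroup (layer K)) ≠ ⊥ := by
      intro h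
      have h1 := Q.not_dvd_index
      change ¬ p ∣ (Q : Subgroup (layer K)).index at h1
      rw [h, Subgroup.index_bot] at h1
      exact h1 hpE
    obtain ⟨⟨x, hx⟩, hx1'⟩ := Subgroup.ne_bot_iff_exists_ne_one.1 hQ1
    have hx1 : x ≠ 1 := fun h => hx1' (Subtype.ext h)
    have hxL : (x : K) ∈ L := key L hL hx
    have hxL' : (x : K) ∈ L' := key L' hL' hx
    have hxc : (⟨(x : K), hxL⟩ : L) ∈ center L := by
      rw [mem_center_iff]
      intro y
      exact Subtype.ext ((CfsgH2.commutator_eq_bot_iff_forall.mp hcomm x hxL' y y.2).symm)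
    have hxp : IsPGroup p (zpowers (⟨(x : K), hxL⟩ : L)) := by
      obtain ⟨k, hk⟩ := Q.2 ⟨x, hx⟩
      have hk' : (x : K) ^ p ^ k = 1 := congrArg (fun z : (Q : Subgroup (layer K)) => ((z : layer K) : K)) hk
      rintro ⟨y, hy⟩
      obtain ⟨j, rfl⟩ := hy
      refine ⟨k, Subtype.ext (Subtype.ext ?_)⟩
      show ((x : K) ^ j) ^ p ^ k = 1
      rw [← zpow_natCast, ← zpow_mul, mul_comm, zpow_mul, zpow_natCast, hk', one_zpow]
    obtain ⟨Q', hQ'⟩ := hxp.exists_le_sylow
    exact hLn L hL (npc_of_cyclic_center Q' (cyc_sylow_subgroup P hP L Q') (hQ' (mem_zpowers _)) 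
      (fun h => hx1 (Subtype.ext (by
        have h9 := congrArg (Subtype.val : L → K) h
        exact h9))) hxc)
  have hlay : layer K = L := by
    apply le_antisymm _ hLE
    unfold layer
    refine sSup_le ?_
    intro L' hL'
    rw [huniq L' hL']
  have hgF : generalizedFittingSubgroup K = L := by
    unfold generalizedFittingSubgroup
    rw [hfit, sup_bot_eq, hlay]
  have hcenter : center L = ⊥ := by
    have h1 := CfsgH2.center_layer_eq (G := K)
    rw [hfit, bot_inf_eq, hlay] at h1
    exact (Subgroup.map_eq_bot_iff_of_injective _ L.subtype_injective).1 h1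
  rw [hgF]
  refine ⟨?_, ?_, ?_⟩
  · have h1 := hL.2.2
    have hinj : Function.Injective (QuotientGroup.mk' (center L)) := by
      rw [← MonoidHom.ker_eq_bot_iff, QuotientGroup.ker_mk', hcenter]
    exact (MulEquiv.ofBijective (QuotientGroup.mk' (center L)) ⟨hinj, QuotientGroup.mk'_surjective _⟩).isSimpleGroup
  · intro h
    haveI := hL.2.1
    have h2 := Group.IsPerfect.subsingleton_of_isMulCommutative (G := L)
    apply CfsgH2.IsComponent.ne_bot hL
    rw [eq_bot_iff]
    intro x hx
    have h3 : (⟨x, hx⟩ : L) = 1 := Subsingleton.elim _ _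
    exact congrArg Subtype.val h3
  · rw [← hlay]; exact hidx

theorem cyc_case_bot (hpK : p ∣ Nat.card K) (hO : pPrimeCore p K = ⊥) (P : Sylow p K) (hP : IsCyclic (P : Subgroup K)) (hE : layer K = ⊥) : 
    ((P : Subgroup K).Normal ∧ Subgroup.centralizer ((P : Subgroup K) : Set K) = (P : Subgroup K) ∧
      (∀ (_ : (P : Subgroup K).Normal), IsCyclic (K ⧸ (P : Subgroup K))) ∧ (P : Subgroup K).index ∣ p - 1) := by
  have hab : ∀ x ∈ (P : Subgroup K), ∀ y ∈ (P : Subgroup K), x * y = y * x := by
    intro x hx y hy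
    have := (IsCyclic.commGroup (α := (P : Subgroup K))).mul_comm ⟨x, hx⟩ ⟨y, hy⟩
    exact congrArg Subtype.val this
  have hVp : IsPGroup p (pCore p K) := CfsgH2.isPGroup_pCore p
  have hVP : pCore p K ≤ P := IsPGroup.le_sylow_of_normal hVp P
  have hC : centralizer (pCore p K : Set K) ≤ pCore p K := by
    have h1 := CfsgH2.centralizer_generalizedFittingSubgroup_le (G := K)
    have h2 : generalizedFittingSubgroup K = pCore p K := by
      unfold generalizedFittingSubgroup
      rw [hE, bot_sup_eq, CfsgH2.fittingSubgroup_eq_pCore_of_pPrimeCore_eq_bot hO]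
    rwa [h2] at h1
  have hPV : (P : Subgroup K) = pCore p K := by
    apply le_antisymm _ hVP
    refine le_trans ?_ hC
    intro x hx
    rw [mem_centralizer_iff]
    intro y hy
    exact hab y (hVP hy) x hx
  have hPn : (P : Subgroup K).Normal := by rw [hPV]; infer_instance
  have hPc : centralizer ((P : Subgroup K) : Set K) = (P : Subgroup K) := by
    apply le_antisymm
    · rw [hPV]; exact hC
    · intro x hx
      rw [mem_centralizer_iff]
      intro y hy
      exact hab y hy x hx
  -- the subgroup of order p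
  obtain ⟨k, hk⟩ := IsPGroup.iff_card.1 P.2
  have hk0 : k ≠ 0 := by
    rintro rfl
    have h1 := Subgroup.card_mul_index (P : Subgroup K)
    rw [show Nat.card (P : Subgroup K) = 1 from hk, one_mul] at h1
    exact P.not_dvd_index (by rw [h1]; exact hpK)
  obtain ⟨u, hu⟩ := exists_prime_orderOf_dvd_card' (G := (P : Subgroup K)) p (by rw [show Nat.card (P : Subgroup K) = _ from hk]; exact dvd_pow_self p hk0)
  set V := zpowers (u : K) with hV
  have hVle : V ≤ (P : Subgroup K) := by rw [hV, zpowers_le]; exact u.2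
  have hVcard : Nat.card V = p := by rw [hV, Nat.card_zpowers, Subgroup.orderOf_coe, hu]
  have hVn : V.Normal := by
    refine ⟨fun x hx g => ?_⟩
    have h1 : MulAut.conj g • V ≤ (P : Subgroup K) := by
      have h2 : MulAut.conj g • (P : Subgroup K) = P := CfsgH1.conj_smul_of_normal g
      rw [← h2]; exact CfsgH1.conj_smul_mono g hVle
    have h3 : MulAut.conj g • V = V := by
      have h4 : (MulAut.conj g • V).subgroupOf (P : Subgroup K) = V.subgroupOf (P : Subgroup K) := by
        apply cyclic_subgroup_eq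
        rw [Nat.card_congr (subgroupOfEquivOfLe h1).toEquiv, Nat.card_congr (subgroupOfEquivOfLe hVle).toEquiv, CfsgH1.card_conj_smul]
      have h5 := congrArg (Subgroup.map (P : Subgroup K).subtype) h4
      rwa [Subgroup.map_subgroupOf_eq_of_le h1, Subgroup.map_subgroupOf_eq_of_le hVle] at h5
    rw [← h3, mem_conj_smul_iff]
    have e : g⁻¹ * (g * x * g⁻¹) * g = x := by group
    rw [e]; exact hx
  -- the action on V
  let φ : K →* MulAut V := MulAut.conjNormal
  have hφ : ∀ (g : K) (a : V), ((φ g a : V) : K) = g * a * g⁻¹ := fun g a => MulAut.conjNormal_apply g a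
  have hker : φ.ker = (P : Subgroup K) := by
    apply le_antisymm
    · intro g hg
      have hgV : ∀ a ∈ V, g * a = a * g := by
        intro a ha
        have h1 := congrArg (fun f : MulAut V => ((f ⟨a, ha⟩ : V) : K)) (MonoidHom.mem_ker.1 hg)
        change ((φ g ⟨a, ha⟩ : V) : K) = a at h1
        rw [hφ] at h1
        calc g * a = (g * a * g⁻¹) * g := by group
          _ = a * g := by rw [h1]
      obtain ⟨a, ha, b, hb, hgab, hao, j, hbk⟩ := exists_pPart (p := p) g (orderOf_pos g).ne'
      have hg2 : zpowers g ≤ centralizer (V : Set K) := by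
        rw [zpowers_le, mem_centralizer_iff]
        intro y hy
        exact (hgV y hy).symm
      have hau : a * (u : K) = u * a := ((mem_centralizer_iff.1 (hg2 ha)) u (mem_zpowers _)).symm
      have hu1 : (u : K) ≠ 1 := by
        intro h
        have : u = 1 := Subtype.ext h
        rw [this, orderOf_one] at hu
        exact hp.out.one_lt.ne hu
      have h2 := CfsgH2.cyc_centralizes (V := (P : Subgroup K)) P.2 hP hao (by rw [normalizer_eq_top]; trivial) u.2 hu1 hau
      have h3 : a ∈ (P : Subgroup K) := by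
        rw [← hPc, mem_centralizer_iff]
        intro y hy; exact (h2 y hy).symm
      have h4 : b ∈ (P : Subgroup K) := by
        have h5 : IsPGroup p (zpowers b) := by
          rintro ⟨y, hy⟩
          obtain ⟨i, rfl⟩ := hy
          refine ⟨j, Subtype.ext ?_⟩
          show (b ^ i) ^ p ^ j = 1
          rw [← zpow_natCast, ← zpow_mul, mul_comm, zpow_mul, zpow_natCast, hbk, one_zpow]
        have h6 : IsPGroup p (zpowers b ⊔ (P : Subgroup K) : Subgroup K) := h5.to_sup_of_normal_right' P.2 (by rw [normalizer_eq_top]; exact le_top)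
        have h7 := P.3 h6 le_sup_right
        rw [← h7]
        exact mem_sup_left (mem_zpowers b)
      rw [hgab]; exact mul_mem h3 h4
    · intro g hg
      rw [MonoidHom.mem_ker]
      apply MulEquiv.ext
      intro a
      apply Subtype.ext
      rw [hφ, hab g hg a (hVle a.2), MulAut.one_apply]; group
  haveI hVcyc : IsCyclic V := isCyclic_of_prime_card hVcard
  let e := IsCyclic.mulAutMulEquiv V
  let ψ : K →* (ZMod (Nat.card V))ˣ := e.toMonoidHom.comp φ
  have hψker : ψ.ker = (P : Subgroup K) := by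
    rw [← hker]
    ext g
    rw [MonoidHom.mem_ker, MonoidHom.mem_ker]
    exact e.map_eq_one_iff
  have hcyc : IsCyclic (ZMod (Nat.card V))ˣ := by
    rw [hVcard]
    infer_instance
  refine ⟨hPn, hPc, ?_, ?_⟩
  · intro hn
    have f : (K ⧸ (P : Subgroup K)) →* (ZMod (Nat.card V))ˣ := QuotientGroup.lift _ ψ (by rw [← hψker])
    let f' : (K ⧸ (P : Subgroup K)) →* (ZMod (Nat.card V))ˣ := QuotientGroup.lift (P : Subgroup K) ψ (by rw [← hψker])
    have hf' : Function.Injective f' := by
      rw [injective_iff_map_eq_one]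
      intro q hq
      obtain ⟨g, rfl⟩ := QuotientGroup.mk_surjective q
      rw [QuotientGroup.eq_one_iff, ← hψker]
      exact hq
    exact isCyclic_of_injective f' hf'
  · rw [← hψker, Subgroup.index_ker]
    have h1 : Nat.card ψ.range ∣ Nat.card (ZMod (Nat.card V))ˣ := Subgroup.card_subgroup_dvd_card _
    haveI : NeZero (Nat.card V) := ⟨Nat.card_pos.ne'⟩
    rw [Nat.card_eq_fintype_card (α := (ZMod (Nat.card V))ˣ), ZMod.card_units_eq_totient] at h1
    refine h1.trans (dvd_of_eq ?_)
    rw [hVcard, Nat.totient_prime hp.out]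

end

end CfsgH3
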