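import Cfsg.Agent.H3.AlpFus
import Cfsg.Agent.H3.CycStruct
import Cfsg.Agent.H3.NPC2
import Cfsg.Agent.H7.Syl
import Cfsg.Agent.H1.Syl
import Cfsg.Agent.H1.OO
import Cfsg.Prelude.Def_IsolatedElements
import Cfsg.Prelude.Def_TwoFusion

set_option autoImplicit false
open Cfsg Subgroup

namespace CfsgH3

variable {G : Type*} [Group G] [Finite G] {p : ℕ} [hp : Fact p.Prime]

theorem mem_cent1 {x g : G} : g ∈ centralizer ({x} : Set G) ↔ g * x * g⁻¹ = x := by
  rw [mem_centralizer_singleton_iff, mul_inv_eq_iff_eq_mul]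

theorem isol_central {x : G} (hiso : IsIsolated x) {R : Subgroup G} (hR : IsPGroup p R) (hxR : x ∈ R) :
    R ≤ centralizer ({x} : Set G) := by
  by_contra hcon
  have h1 : R ⊓ centralizer ({x} : Set G) < R := lt_of_le_of_ne inf_le_left (fun h => hcon (inf_eq_left.1 h))
  have h2 := CfsgH7.lt_inf_normalizer hR h1
  obtain ⟨n, hn, hn2⟩ := SetLike.exists_of_lt h2
  have hxT : x ∈ R ⊓ centralizer ({x} : Set G) := ⟨hxR, mem_cent1.2 (by group)⟩
  have h3 := (mem_normalizer_iff.1 hn.2 x).1 hxT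
  have h4 : n * x * n⁻¹ = x := by
    apply hiso
    have := mem_centralizer_singleton_iff.1 h3.2
    exact this.symm
  exact hn2 ⟨hn.1, mem_cent1.2 h4⟩

theorem isol_norm {x : G} (hiso : IsIsolated x) {R : Subgroup G} (hR : IsPGroup p R) (hxR : x ∈ R) :
    normalizer (R : Set G) ≤ centralizer ({x} : Set G) := by
  intro g hg
  rw [mem_cent1]
  apply hiso
  have h1 := (mem_normalizer_iff.1 hg x).1 hxR
  have := mem_centralizer_singleton_iff.1 (isol_central hiso hR hxR h1)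
  exact this.symm

omit [Finite G] hp in
theorem pg_zpowers {x : G} (hx : ∃ k : ℕ, orderOf x = p ^ k) : IsPGroup p (zpowers x) := by
  obtain ⟨k, hk⟩ := hx
  exact IsPGroup.of_card (n := k) (by rw [Nat.card_zpowers, hk])

/-- if `y` is a power of the isolated `p`-element `x`, and `g y g⁻¹` commutes with `x`, then it is `y` -/
theorem isol_power {x : G} (hx : ∃ k : ℕ, orderOf x = p ^ k) (hiso : IsIsolated x) {y g : G} (hy : y ∈ zpowers x)
    (h : x ∈ centralizer ({g * y * g⁻¹} : Set G)) : g * y * g⁻¹ = y := by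
  set z := g * y * g⁻¹ with hz
  have hxy : x * y * x⁻¹ = y := by
    obtain ⟨n, rfl⟩ := mem_zpowers_iff.1 hy
    rw [mul_inv_eq_iff_eq_mul]
    exact (Commute.refl x).zpow_right n |>.eq
  have hx' : g * x * g⁻¹ ∈ centralizer ({z} : Set G) := by
    rw [mem_cent1, hz]
    calc g * x * g⁻¹ * (g * y * g⁻¹) * (g * x * g⁻¹)⁻¹ = g * (x * y * x⁻¹) * g⁻¹ := by group
      _ = _ := by rw [hxy]
  obtain ⟨R, hR, hxR⟩ := CfsgH1.exists_isSylowOf_ge (p := p) (pg_zpowers hx) (zpowers_le.2 h)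
  have hx'p : IsPGroup p (zpowers (g * x * g⁻¹)) := by
    apply pg_zpowers
    obtain ⟨k, hk⟩ := hx
    refine ⟨k, ?_⟩
    have : g * x * g⁻¹ = (MulAut.conj g) x := rfl
    rw [this, MulEquiv.orderOf_eq, hk]
  obtain ⟨c, hc, hcR⟩ := exists_conj_le_sylowOf hR hx'p (zpowers_le.2 hx')
  have h1 : c * (g * x * g⁻¹) * c⁻¹ ∈ R := by
    apply hcR
    rw [CfsgH1.mem_conj_smul]
    have : c⁻¹ * (c * (g * x * g⁻¹) * c⁻¹) * c = g * x * g⁻¹ := by group
    rw [this]; exact mem_zpowers _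
  have h2 := isol_central hiso (CfsgH1.isSylowOf_isPGroup hR) (hxR (mem_zpowers x)) h1
  have h3 : (c * g) * x * (c * g)⁻¹ = x := by
    apply hiso
    have e : (c * g) * x * (c * g)⁻¹ = c * (g * x * g⁻¹) * c⁻¹ := by group
    rw [e]
    exact (mem_centralizer_singleton_iff.1 h2).symm
  have h4 : (c * g) * y * (c * g)⁻¹ = y := by
    obtain ⟨n, rfl⟩ := mem_zpowers_iff.1 hy
    rw [← conj_zpow, h3]
  have h5 : (c * g) * y * (c * g)⁻¹ = z := by
    have e : (c * g) * y * (c * g)⁻¹ = c * z * c⁻¹ := by rw [hz]; group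
    rw [e]; exact mem_cent1.1 hc
  rw [← h5, h4]

/-- image in a quotient -/
theorem isol_quot {x : G} (hx : ∃ k : ℕ, orderOf x = p ^ k) (hiso : IsIsolated x) (N : Subgroup G) [N.Normal] :
    IsIsolated (QuotientGroup.mk x : G ⧸ N) := by
  intro gb hcom
  obtain ⟨g, rfl⟩ := QuotientGroup.mk_surjective gb
  set y := g * x * g⁻¹ with hy
  have hyx : (QuotientGroup.mk g * QuotientGroup.mk x * (QuotientGroup.mk g)⁻¹ : G ⧸ N) = QuotientGroup.mk y := rfl
  rw [hyx] at hcom ⊢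
  let π : G →* G ⧸ N := QuotientGroup.mk' N
  have hyo : ∃ k : ℕ, orderOf y = p ^ k := by
    obtain ⟨k, hk⟩ := hx
    refine ⟨k, ?_⟩
    have : y = (MulAut.conj g) x := rfl
    rw [this, MulEquiv.orderOf_eq, hk]
  let Kb : Subgroup (G ⧸ N) := zpowers (π x) ⊔ zpowers (π y)
  have hxb : IsPGroup p (zpowers (π x)) := by
    have := (pg_zpowers hx).map π
    rwa [MonoidHom.map_zpowers] at this
  have hyb : IsPGroup p (zpowers (π y)) := by
    have := (pg_zpowers hyo).map π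
    rwa [MonoidHom.map_zpowers] at this
  have hnorm : zpowers (π y) ≤ normalizer ((zpowers (π x) : Subgroup (G ⧸ N)) : Set (G ⧸ N)) := by
    rw [zpowers_le]
    apply centralizer_le_normalizer
    rw [mem_centralizer_iff]
    intro u hu
    obtain ⟨n, rfl⟩ := mem_zpowers_iff.1 hu
    exact (Commute.zpow_left hcom n).eq
  have hKb : IsPGroup p Kb := hxb.to_sup_of_normal_left' hyb hnorm
  let K : Subgroup G := Kb.comap π
  have hxK : x ∈ K := (le_sup_left : zpowers (π x) ≤ Kb) (mem_zpowers _)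
  have hyK : y ∈ K := (le_sup_right : zpowers (π y) ≤ Kb) (mem_zpowers _)
  obtain ⟨R, hR, hxR⟩ := CfsgH1.exists_isSylowOf_ge (p := p) (pg_zpowers hx) (zpowers_le.2 hxK)
  obtain ⟨k, hk, hkR⟩ := exists_conj_le_sylowOf hR (pg_zpowers hyo) (zpowers_le.2 hyK)
  have hkR' : k * y * k⁻¹ ∈ R := by
    apply hkR
    rw [CfsgH1.mem_conj_smul]
    have : k⁻¹ * (k * y * k⁻¹) * k = y := by group
    rw [this]; exact mem_zpowers _
  have hmap : Subgroup.map π K = Kb := Subgroup.map_comap_eq_self_of_surjective (QuotientGroup.mk'_surjective N) Kb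
  have hRb := CfsgH1.isSylowOf_map π hR
  rw [hmap] at hRb
  have hRb2 : Kb ≤ Subgroup.map π R := by
    rw [CfsgH1.isSylowOf_iff] at hRb
    rw [← Subgroup.relIndex_eq_one]
    obtain ⟨n, hn⟩ := IsPGroup.iff_card.1 hKb
    have hd : (Subgroup.map π R).relIndex Kb ∣ p ^ n := by rw [← hn]; exact Subgroup.relIndex_dvd_card _ _
    obtain ⟨m, -, hm⟩ := (Nat.dvd_prime_pow hp.out).1 hd
    rw [hm] at hRb ⊢
    rcases Nat.eq_zero_or_pos m with h0 | h0
    · rw [h0, pow_zero]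
    · exact absurd (dvd_pow_self p h0.ne') hRb.2.2
  obtain ⟨r, hr, hrk⟩ := hRb2 (show π k ∈ Kb from hk)
  have hn : r⁻¹ * k ∈ N := by
    rw [← QuotientGroup.eq]; exact hrk
  have h1 : (r⁻¹ * k) * y * (r⁻¹ * k)⁻¹ ∈ R := by
    have e : (r⁻¹ * k) * y * (r⁻¹ * k)⁻¹ = r⁻¹ * (k * y * k⁻¹) * r := by group
    rw [e]; exact R.mul_mem (R.mul_mem (R.inv_mem hr) hkR') hr
  have h2 := isol_central hiso (CfsgH1.isSylowOf_isPGroup hR) (hxR (mem_zpowers x)) h1
  have h3 : (r⁻¹ * k * g) * x * (r⁻¹ * k * g)⁻¹ = x := by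
    apply hiso
    have e : (r⁻¹ * k * g) * x * (r⁻¹ * k * g)⁻¹ = (r⁻¹ * k) * y * (r⁻¹ * k)⁻¹ := by rw [hy]; group
    rw [e]
    exact (mem_centralizer_singleton_iff.1 h2).symm
  have h4 : y = (r⁻¹ * k)⁻¹ * x * (r⁻¹ * k) := by
    rw [← h3, hy]; group
  have h5 : π (r⁻¹ * k) = 1 := (QuotientGroup.eq_one_iff _).2 hn
  show π y = π x
  conv_lhs => rw [h4]
  rw [map_mul, map_mul, map_inv, h5]; simp

/-- normalizer = centralizer for an abelian Sylow subgroup of a group with a normal `p`-complement -/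
theorem norm_le_cent_of_npc {E : Subgroup G} (h : HasNPC p E) (P : Sylow p G) (hPE : (P : Subgroup G) ≤ E)
    (hab : ∀ a ∈ (P : Subgroup G), ∀ b ∈ (P : Subgroup G), a * b = b * a) :
    E ⊓ normalizer ((P : Subgroup G) : Set G) ≤ centralizer ((P : Subgroup G) : Set G) := by
  obtain ⟨K, hK, hKc, k, hk⟩ := h
  intro g hg
  rw [mem_centralizer_iff]
  intro y hy
  have hPK : ∀ e : E, ∃ a : E, (a : G) ∈ (P : Subgroup G) ∧ a⁻¹ * e ∈ K := by
    intro e
    have hEK : IsPGroup p (E ⧸ K) := IsPGroup.of_card (n := k) hk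
    have h1 : CfsgH1.IsSylowOf p (P : Subgroup G) E := CfsgH1.isSylowOf_of_le (CfsgH1.sylow_isSylowOf P) hPE le_top
    obtain ⟨Q, hQ⟩ := h1
    have h2 := CfsgH1.isSylowOf_map (QuotientGroup.mk' K) (CfsgH1.sylow_isSylowOf Q)
    have h3 : Subgroup.map (QuotientGroup.mk' K) (⊤ : Subgroup E) = ⊤ := by
      rw [← MonoidHom.range_eq_map, MonoidHom.range_eq_top]; exact QuotientGroup.mk'_surjective K
    rw [h3, CfsgH1.isSylowOf_iff] at h2
    have h4 : (⊤ : Subgroup (E ⧸ K)) ≤ Subgroup.map (QuotientGroup.mk' K) (Q : Subgroup E) := by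
      rw [← Subgroup.relIndex_eq_one]
      have hd : (Subgroup.map (QuotientGroup.mk' K) (Q : Subgroup E)).relIndex ⊤ ∣ p ^ k := by
        rw [← hk]
        have : Nat.card (⊤ : Subgroup (E ⧸ K)) = K.index := Subgroup.card_top
        rw [← this]; exact Subgroup.relIndex_dvd_card _ _
      obtain ⟨m, -, hm⟩ := (Nat.dvd_prime_pow hp.out).1 hd
      rw [hm] at h2 ⊢
      rcases Nat.eq_zero_or_pos m with h0 | h0
      · rw [h0, pow_zero]
      · exact absurd (dvd_pow_self p h0.ne') h2.2.2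
    obtain ⟨a, ha, hae⟩ := h4 (show QuotientGroup.mk' K e ∈ ⊤ from trivial)
    refine ⟨a, ?_, ?_⟩
    · rw [← hQ]; exact ⟨a, ha, rfl⟩
    · rw [← QuotientGroup.eq]; exact hae
  have hyE := hPE hy
  -- commutator is in K ∩ P
  obtain ⟨a, ha, haK⟩ := hPK ⟨g, hg.1⟩
  let g' : E := ⟨g, hg.1⟩
  let y' : E := ⟨y, hyE⟩
  have hc : y'⁻¹ * (g' * y' * g'⁻¹) ∈ K := by
    -- modulo K, g' = a commutes with y'
    have e1 : (QuotientGroup.mk' K) g' = (QuotientGroup.mk' K) a := by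
      symm
      show (QuotientGroup.mk a : E ⧸ K) = QuotientGroup.mk g'
      rw [QuotientGroup.eq]; exact haK
    have e2 : a * y' = y' * a := Subtype.ext (hab a ha y hy)
    rw [← QuotientGroup.eq_one_iff]
    show (QuotientGroup.mk' K) (y'⁻¹ * (g' * y' * g'⁻¹)) = 1
    rw [map_mul, map_mul, map_mul, map_inv, map_inv, e1, ← map_mul, e2, map_mul]
    group
  have hp1 : (y'⁻¹ * (g' * y' * g'⁻¹) : E) = 1 := by
    have h1 : ((y'⁻¹ * (g' * y' * g'⁻¹) : E) : G) ∈ (P : Subgroup G) := by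
      show y⁻¹ * (g * y * g⁻¹) ∈ (P : Subgroup G)
      exact (P : Subgroup G).mul_mem ((P : Subgroup G).inv_mem hy) ((mem_normalizer_iff.1 hg.2 y).1 hy)
    set w := y'⁻¹ * (g' * y' * g'⁻¹) with hw
    have h2 : (orderOf w).Coprime p := by
      have h3 : orderOf w ∣ Nat.card K := by
        have := orderOf_dvd_natCard (⟨w, hc⟩ : K)
        rwa [Subgroup.orderOf_mk] at this
      exact Nat.Coprime.coprime_dvd_left h3 hKc
    obtain ⟨j, hj⟩ := P.isPGroup' ⟨(w : G), h1⟩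
    have h4 : w ^ p ^ j = 1 := by
      apply Subtype.ext
      have := congrArg Subtype.val hj
      simpa using this
    have h5 := orderOf_dvd_of_pow_eq_one h4
    have h6 : orderOf w = 1 := Nat.eq_one_of_dvd_coprimes (h2.pow_right j) dvd_rfl h5
    exact orderOf_eq_one_iff.1 h6
  have h7 : y⁻¹ * (g * y * g⁻¹) = 1 := congrArg Subtype.val hp1
  have h8 : g * y * g⁻¹ = y := by
    have := congrArg (fun t => y * t) h7
    simpa using this
  have := mul_inv_eq_iff_eq_mul.1 h8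
  exact this.symm

end CfsgH3
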