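import Cfsg.Agent.H3.MaxCl2
import Cfsg.Agent.H3.Dih

/-! 2-groups with `|S/S'| = 4`, up to isomorphism. -/

set_option autoImplicit false
open Subgroup

namespace CfsgH3

universe u

variable {S : Type u} [Group S] [Finite S]

theorem maxcl_iso (h2 : IsPGroup 2 S) (hab : (_root_.commutator S).index = 4) (hne : Nat.card S ≠ 4) :
    ((∃ k : ℕ, Nonempty (S ≃* DihedralGroup (2 ^ (k + 2)))) ∨
      (∃ k : ℕ, Nat.card S = 2 ^ (k + 4) ∧ ∃ a b : S, orderOf a = 2 ^ (k + 3) ∧ orderOf b = 2 ∧ b * a * b⁻¹ = a ^ (2 ^ (k + 2) - 1)) ∨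
      (∃ k : ℕ, Nonempty (S ≃* QuaternionGroup (2 ^ (k + 1))))) := by
  haveI : Fact (Nat.Prime 2) := ⟨Nat.prime_two⟩
  obtain ⟨n, hn⟩ := IsPGroup.iff_card.1 h2
  have hdvd : 4 ∣ Nat.card S := by rw [← hab]; exact Subgroup.index_dvd_card _
  have hn3 : 3 ≤ n := by
    by_contra hcon
    have h3 : n = 0 ∨ n = 1 ∨ n = 2 := by omega
    rw [hn] at hdvd hne
    rcases h3 with rfl | rfl | rfl
    · norm_num at hdvd
    · norm_num at hdvd
    · exact hne (by norm_num)
  obtain ⟨c, x, hc, hxc, htop, hidx, hrel, hx2, -⟩ := maxcl_structure n hn3 hn hab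
  have hcl : Subgroup.closure ({c, x} : Set S) = ⊤ := by
    rw [eq_top_iff, ← htop]
    refine sup_le ?_ ?_
    · rw [zpowers_le]; exact subset_closure (by simp)
    · rw [zpowers_le]; exact subset_closure (by simp)
  have e0 : ∀ {T : Type} [Group T], Nonempty (↥(Subgroup.closure ({c, x} : Set S)) ≃* T) → Nonempty (S ≃* T) := by
    rintro T _ ⟨e⟩
    rw [hcl] at e
    exact ⟨Subgroup.topEquiv.symm.trans e⟩
  rcases hrel with hrel | hrel
  · rcases hx2 with hx2 | hx2
    · left
      refine ⟨n - 3, ?_⟩
      have e1 : n - 3 + 2 = n - 1 := by omega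
      rw [e1]
      exact e0 (nonempty_dihedral_equiv (2 ^ (n - 1)) c x hc hx2 hrel hxc)
    · right; right
      refine ⟨n - 3, ?_⟩
      have e1 : n - 3 + 1 = n - 2 := by omega
      rw [e1]
      refine e0 (nonempty_quaternion_equiv (2 ^ (n - 2)) c x ?_ hx2 hrel hxc)
      rw [hc, ← pow_succ']
      congr 1; omega
  · by_cases h3 : n = 3
    · exfalso
      subst h3
      have h4 : c⁻¹ * c ^ 2 ^ (3 - 2) = c := by norm_num [pow_two]
      rw [h4] at hrel
      have hcomm : ∀ a b : S, a * b = b * a := by
        have h5 : ∀ a ∈ ({c, x} : Set S), ∀ b ∈ ({c, x} : Set S), a * b = b * a := by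
          have h6 : x * c = c * x := by
            calc x * c = (x * c * x⁻¹) * x := by group
              _ = c * x := by rw [hrel]
          rintro a (rfl | ha) b (rfl | hb)
          · rfl
          · rw [Set.mem_singleton_iff.1 hb]; exact h6.symm
          · rw [Set.mem_singleton_iff.1 ha]; exact h6
          · rw [Set.mem_singleton_iff.1 ha, Set.mem_singleton_iff.1 hb]
        have h7 := Subgroup.isMulCommutative_closure h5
        rw [hcl] at h7
        intro a b
        exact congrArg Subtype.val (h7.is_comm.comm (⟨a, trivial⟩ : (⊤ : Subgroup S)) ⟨b, trivial⟩)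
      have h5 : _root_.commutator S = ⊥ := by
        rw [_root_.commutator_def, Subgroup.commutator_eq_bot_iff_le_centralizer]
        intro a _
        rw [mem_centralizer_iff]
        intro b _
        exact hcomm b a
      rw [h5, Subgroup.index_bot, hn] at hab
      norm_num at hab
    · right; left
      refine ⟨n - 4, ?_, ?_⟩
      · rw [hn]; congr 1; omega
      · have e3 : n - 4 + 3 = n - 1 := by omega
        have e2 : n - 4 + 2 = n - 2 := by omega
        rw [e3, e2]
        have hord : c ^ 2 ^ (n - 1) = 1 := by rw [← hc]; exact pow_orderOf_eq_one c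
        have hpos : 1 ≤ 2 ^ (n - 2) := Nat.one_le_two_pow
        have hcpow : c⁻¹ * c ^ 2 ^ (n - 2) = c ^ (2 ^ (n - 2) - 1) := by
          rw [inv_mul_eq_iff_eq_mul, ← pow_succ']
          congr 1; omega
        rw [hcpow] at hrel
        have hordof : ∀ b : S, b ∉ zpowers c → b * b = 1 → orderOf b = 2 := by
          intro b hb hbb
          apply orderOf_eq_prime
          · rw [pow_two]; exact hbb
          · rintro rfl
            exact hb (Subgroup.one_mem _)
        rcases hx2 with hx2 | hx2
        · exact ⟨c, x, hc, hordof x hxc hx2, hrel⟩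
        · refine ⟨c, x * c, hc, hordof _ ?_ ?_, ?_⟩
          · intro h
            apply hxc
            have := Subgroup.mul_mem _ h (Subgroup.inv_mem _ (mem_zpowers c))
            rwa [mul_inv_cancel_right] at this
          · have h4 : x * c = c ^ (2 ^ (n - 2) - 1) * x := by rw [← hrel]; group
            calc x * c * (x * c) = (x * c) * x * c := by group
              _ = c ^ (2 ^ (n - 2) - 1) * (x * x) * c := by rw [h4]; group
              _ = c ^ (2 ^ (n - 2) - 1) * c ^ 2 ^ (n - 2) * c := by rw [hx2]
              _ = c ^ (2 ^ (n - 1)) := by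
                rw [← pow_add, ← pow_succ]
                congr 1
                have : 2 ^ (n - 1) = 2 * 2 ^ (n - 2) := by rw [← pow_succ']; congr 1; omega
                omega
              _ = 1 := hord
          · calc x * c * c * (x * c)⁻¹ = x * c * x⁻¹ := by group
              _ = _ := hrel

end CfsgH3
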