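import Cfsg.Agent.H3.Regular

/-!
# Regular `p`-groups, part 2: Kemhadze's criterion, powers form a subgroup
-/

set_option autoImplicit false
open Subgroup Cfsg
open scoped commutatorElement

namespace CfsgH3

universe u v

variable {p : ℕ} [hp : Fact p.Prime]

theorem commutator_quotient_eq {G : Type*} [Group G] (N : Subgroup G) [N.Normal] :
    commutator (G ⧸ N) = (commutator G).map (QuotientGroup.mk' N) := by
  rw [_root_.commutator_def, _root_.commutator_def, Subgroup.map_commutator, ← MonoidHom.range_eq_map,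
    MonoidHom.range_eq_top.2 (QuotientGroup.mk'_surjective _)]

theorem Reg1.mul_pow_of_omega {G : Type*} [Group G] [Finite G] (hG : Reg1 p G) {u w : G} (hw : w ^ p = 1) :
    (u * w) ^ p = u ^ p := by
  rw [hG.pow_eq_iff, conj_pow, hw, mul_one, mul_inv_cancel]

/-- if the commutator of `x, y` has order dividing `p ^ k`, so do all elements of the derived subgroup of `⟨x, y⟩` -/
theorem Reg1.pairComm_pow {G : Type*} [Group G] [Finite G] (hG : Reg1 p G) {x y : G} {k : ℕ}
    (h : ⁅y, x⁆ ^ p ^ k = 1) : ∀ c ∈ pairComm x y, c ^ p ^ k = 1 := by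
  set H := Subgroup.closure ({x, y} : Set G) with hH
  have hx : x ∈ H := Subgroup.subset_closure (Or.inl rfl)
  have hy : y ∈ H := Subgroup.subset_closure (Or.inr rfl)
  have hgen : Subgroup.closure ({(⟨x, hx⟩ : H), ⟨y, hy⟩} : Set H) = ⊤ := by
    apply Subgroup.map_injective H.subtype_injective
    rw [MonoidHom.map_closure, Set.image_pair, ← MonoidHom.range_eq_map, Subgroup.range_subtype]
    rfl
  have hGH : Reg1 p H := hG.of_injective H.subtype H.subtype_injective
  haveI := hGH.omegaN_char k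
  have h1 : commutator H ≤ hGH.omegaN k := by
    refine (commutator_eq_normalClosure_of_gen hgen).trans ?_
    apply Subgroup.normalClosure_le_normal
    rw [Set.singleton_subset_iff]
    exact Subtype.ext h
  intro c hc
  have h2 : pairComm x y = (commutator H).map H.subtype := by
    rw [_root_.commutator_def, Subgroup.map_commutator, ← MonoidHom.range_eq_map, Subgroup.range_subtype]
    rfl
  rw [h2] at hc
  obtain ⟨c', hc', rfl⟩ := hc
  exact congrArg Subtype.val (h1 hc')

theorem Reg1.comm_pow {G : Type*} [Group G] [Finite G] (hG : Reg1 p G) {x y : G} {k : ℕ} :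
    ⁅y, x⁆ ^ p ^ k = 1 ↔ x ^ p ^ k * y = y * x ^ p ^ k := by
  have h1 := Reg1.pow_eq_iff' k hG (y * x * y⁻¹) x
  have e : y * x * y⁻¹ * x⁻¹ = ⁅y, x⁆ := by rw [commutatorElement_def]
  rw [e] at h1
  rw [← h1, conj_pow]
  constructor
  · intro h
    calc x ^ p ^ k * y = (y * x ^ p ^ k * y⁻¹) * y := by rw [h]
      _ = y * x ^ p ^ k := by group
  · intro h
    rw [← h]; group

/-- in a regular group with derived subgroup of exponent dividing `p ^ n`, the `p ^ n`-th power is multiplicative -/
theorem Reg1.mul_pow_of_exp (n : ℕ) : ∀ {G : Type u} [Group G] [Finite G] (_ : Reg1 p G)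
    (_ : ∀ c ∈ commutator G, c ^ p ^ n = 1) (a b : G), (a * b) ^ p ^ n = a ^ p ^ n * b ^ p ^ n := by
  induction n with
  | zero => 
    intro G _ _ hG _ a b
    rw [pow_zero, pow_one, pow_one, pow_one]
  | succ n ih =>
    intro G _ _ hG hD a b
    haveI := hG.omega_normal
    have hQ : Reg1 p (G ⧸ hG.omega) := hG.of_surjective (QuotientGroup.mk' _) (QuotientGroup.mk'_surjective _)
    have hmap : commutator (G ⧸ hG.omega) = (commutator G).map (QuotientGroup.mk' hG.omega) := 
      commutator_quotient_eq _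
    have hDQ : ∀ c ∈ commutator (G ⧸ hG.omega), c ^ p ^ n = 1 := by
      rw [hmap]
      rintro _ ⟨c, hc, rfl⟩
      rw [← map_pow]
      refine (QuotientGroup.eq_one_iff _).2 ?_
      rw [hG.mem_omega, ← pow_mul, ← pow_succ]
      exact hD c hc
    have h1 := ih hQ hDQ (QuotientGroup.mk' hG.omega a) (QuotientGroup.mk' hG.omega b)
    rw [← map_mul, ← map_pow, ← map_pow, ← map_pow, ← map_mul] at h1
    have h2 : ∃ w : G, w ^ p = 1 ∧ (a * b) ^ p ^ n = a ^ p ^ n * b ^ p ^ n * w := by
      refine ⟨(a ^ p ^ n * b ^ p ^ n)⁻¹ * (a * b) ^ p ^ n, ?_, by group⟩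
      exact QuotientGroup.eq.1 h1.symm
    obtain ⟨w, hw, hw'⟩ := h2
    rw [pow_succ, pow_mul, hw', hG.mul_pow_of_omega hw]
    obtain ⟨c, hc, hab⟩ := hG.2 (a ^ p ^ n) (b ^ p ^ n)
    rw [hab, ← pow_mul, ← pow_mul]
    have h3 : ∀ c ∈ pairComm (a ^ p ^ n) (b ^ p ^ n), c ^ p ^ 1 = 1 := by
      apply hG.pairComm_pow
      rw [hG.comm_pow, pow_one, ← pow_mul, ← pow_succ]
      have h4 : ⁅b ^ p ^ n, a⁆ ^ p ^ (n + 1) = 1 := 
        hD _ (commutator_mem_commutator (mem_top _) (mem_top _))
      exact hG.comm_pow.1 h4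
    have h5 : powerClosure p 1 (pairComm (a ^ p ^ n) (b ^ p ^ n)) = ⊥ := powerClosure_eq_bot h3
    rw [h5, mem_bot] at hc
    rw [hc, mul_one]

/-- Kemhadze: the first power condition implies regularity -/
theorem Reg1.regular {G : Type*} [Group G] [Finite G] (hG : Reg1 p G) : IsRegularPGroup p G := by
  refine ⟨hG.1, fun a b n => ?_⟩
  set H := Subgroup.closure ({a, b} : Set G) with hH
  have ha : a ∈ H := Subgroup.subset_closure (Or.inl rfl)
  have hb : b ∈ H := Subgroup.subset_closure (Or.inr rfl)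
  have hGH : Reg1 p H := hG.of_injective H.subtype H.subtype_injective
  have hn : (powerClosure p n (commutator H)).Normal := powerClosure_normal inferInstance
  have hQ : Reg1 p (H ⧸ powerClosure p n (commutator H)) :=
    hGH.of_surjective (QuotientGroup.mk' _) (QuotientGroup.mk'_surjective _)
  have hmap : commutator (H ⧸ powerClosure p n (commutator H)) = 
      (commutator H).map (QuotientGroup.mk' (powerClosure p n (commutator H))) := commutator_quotient_eq _
  have hD : ∀ c ∈ commutator (H ⧸ powerClosure p n (commutator H)), c ^ p ^ n = 1 := by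
    rw [hmap]
    rintro _ ⟨c, hc, rfl⟩
    rw [← map_pow]
    exact (QuotientGroup.eq_one_iff _).2 (pow_mem_powerClosure hc)
  have h1 := Reg1.mul_pow_of_exp n hQ hD (QuotientGroup.mk' (powerClosure p n (commutator H)) ⟨a, ha⟩)
    (QuotientGroup.mk' (powerClosure p n (commutator H)) ⟨b, hb⟩)
  rw [← map_mul, ← map_pow, ← map_pow, ← map_pow, ← map_mul] at h1
  have h2 : ((⟨a, ha⟩ : H) ^ p ^ n * (⟨b, hb⟩ : H) ^ p ^ n)⁻¹ * ((⟨a, ha⟩ : H) * ⟨b, hb⟩) ^ p ^ n ∈ powerClosure p n (commutator H) :=
    QuotientGroup.eq.1 h1.symm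
  have hmap2 : (powerClosure p n (commutator H)).map H.subtype = powerClosure p n (⁅H, H⁆ : Subgroup G) := by
    rw [powerClosure_map, _root_.commutator_def, Subgroup.map_commutator, ← MonoidHom.range_eq_map, Subgroup.range_subtype]
  refine ⟨(a ^ p ^ n * b ^ p ^ n)⁻¹ * (a * b) ^ p ^ n, ?_, by group⟩
  rw [← hmap2]
  exact ⟨_, h2, rfl⟩

/-- a product of `p ^ n`-th powers is a `p ^ n`-th power -/
theorem reg_powers (m : ℕ) : ∀ {G : Type u} [Group G] [Finite G], Nat.card G ≤ m → IsRegularPGroup p G → ∀ (n : ℕ) (a b : G),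
    ∃ c : G, a ^ p ^ n * b ^ p ^ n = c ^ p ^ n := by
  induction m with
  | zero =>
    intro G _ _ hc
    exact absurd hc (by have : 0 < Nat.card G := Nat.card_pos; omega)
  | succ m ih =>
    intro G _ _ hcard hG n a b
    have hsub : ∀ H : Subgroup G, H ≠ ⊤ → ∀ u ∈ H, ∀ v ∈ H, ∃ c ∈ H, u ^ p ^ n * v ^ p ^ n = c ^ p ^ n := by
      intro H hH u hu v hv
      have h1 : Nat.card H < Nat.card G := by
        have h2 : Nat.card H ≤ Nat.card G := Nat.card_le_card_of_injective _ H.subtype_injective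
        rcases h2.lt_or_eq with h | h
        · exact h
        · exact absurd (Subgroup.card_eq_iff_eq_top H |>.1 h) hH
      obtain ⟨c, hc⟩ := ih (G := H) (by omega) (regular_of_injective hG H.subtype H.subtype_injective) n ⟨u, hu⟩ ⟨v, hv⟩
      exact ⟨c, c.2, congrArg Subtype.val hc⟩
    by_cases hH : zpowers (a * b) ⊔ commutator G = ⊤
    · have h1 := zpowers_eq_top_of_sup_commutator hG.1 hH
      refine ⟨a * b, ?_⟩
      have h2 : a * b = b * a := by
        have h2 : ⁅a, b⁆ ∈ commutator G := commutator_mem_commutator (mem_top a) (mem_top b)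
        rw [commutator_eq_bot_of_zpowers h1, mem_bot, commutatorElement_eq_one_iff_mul_comm] at h2
        exact h2
      exact ((show Commute a b from h2).mul_pow _).symm
    · obtain ⟨c, hc, hab⟩ := hG.2 a b n
      -- `c` is a product of powers of elements of the derived subgroup
      have h1 : ∀ c ∈ powerClosure p n (commutator G), ∃ d ∈ zpowers (a * b) ⊔ commutator G, c = d ^ p ^ n := by
        intro c hc
        refine Subgroup.closure_induction (p := fun c _ => ∃ d ∈ zpowers (a * b) ⊔ commutator G, c = d ^ p ^ n) 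
          ?_ ?_ ?_ ?_ hc
        · rintro _ ⟨x, hx, rfl⟩
          exact ⟨x, Subgroup.mem_sup_right hx, rfl⟩
        · exact ⟨1, Subgroup.one_mem _, (one_pow _).symm⟩
        · rintro _ _ _ _ ⟨d, hd, rfl⟩ ⟨e, he, rfl⟩
          exact hsub _ hH d hd e he
        · rintro _ _ ⟨d, hd, rfl⟩
          exact ⟨d⁻¹, Subgroup.inv_mem _ hd, (inv_pow _ _).symm⟩
      obtain ⟨d, hd, rfl⟩ := h1 c (powerClosure_mono (pairComm_le_commutator a b) hc)
      obtain ⟨e, -, he⟩ := hsub _ hH (a * b) (Subgroup.mem_sup_left (mem_zpowers _)) d⁻¹ (Subgroup.inv_mem _ hd)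
      refine ⟨e, ?_⟩
      rw [← he, hab, inv_pow]
      group

theorem IsRegular.powers {G : Type*} [Group G] [Finite G] (hG : IsRegularPGroup p G) (n : ℕ) (a b : G) :
    ∃ c : G, a ^ p ^ n * b ^ p ^ n = c ^ p ^ n := reg_powers _ le_rfl hG n a b

theorem IsRegular.powers_mem {G : Type*} [Group G] [Finite G] (hG : IsRegularPGroup p G) (n : ℕ) {H : Subgroup G}
    {a b : G} (ha : a ∈ H) (hb : b ∈ H) : ∃ c ∈ H, a ^ p ^ n * b ^ p ^ n = c ^ p ^ n := by
  obtain ⟨c, hc⟩ := IsRegular.powers (regular_of_injective hG H.subtype H.subtype_injective) n ⟨a, ha⟩ ⟨b, hb⟩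
  exact ⟨c, c.2, congrArg Subtype.val hc⟩

theorem IsRegular.powerClosure_eq {G : Type*} [Group G] [Finite G] (hG : IsRegularPGroup p G) (H : Subgroup G) (n : ℕ) :
    {y : G | ∃ x ∈ H, y = x ^ p ^ n} = (powerClosure p n H : Set G) := by
  apply Set.Subset.antisymm
  · exact Subgroup.subset_closure
  · intro c hc
    refine Subgroup.closure_induction (p := fun c _ => ∃ d ∈ H, c = d ^ p ^ n) ?_ ?_ ?_ ?_ hc
    · rintro _ ⟨x, hx, rfl⟩
      exact ⟨x, hx, rfl⟩
    · exact ⟨1, Subgroup.one_mem _, (one_pow _).symm⟩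
    · rintro _ _ _ _ ⟨d, hd, rfl⟩ ⟨e, he, rfl⟩
      exact IsRegular.powers_mem hG n hd he
    · rintro _ _ ⟨d, hd, rfl⟩
      exact ⟨d⁻¹, Subgroup.inv_mem _ hd, (inv_pow _ _).symm⟩

theorem IsRegular.commutator_powerClosure {G : Type*} [Group G] [Finite G] (hG : IsRegularPGroup p G) (n : ℕ) :
    ⁅powerClosure p n (⊤ : Subgroup G), powerClosure p n (⊤ : Subgroup G)⁆ ≤ powerClosure p n (commutator G) := by
  have hn : (powerClosure p n (commutator G)).Normal := powerClosure_normal inferInstance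
  have hQ : Reg1 p (G ⧸ powerClosure p n (commutator G)) :=
    (IsRegular.reg1 hG).of_surjective (QuotientGroup.mk' _) (QuotientGroup.mk'_surjective _)
  rw [Subgroup.commutator_le]
  intro u hu v hv
  have hu' : u ∈ (powerClosure p n (⊤ : Subgroup G) : Set G) := hu
  have hv' : v ∈ (powerClosure p n (⊤ : Subgroup G) : Set G) := hv
  rw [← IsRegular.powerClosure_eq hG] at hu' hv'
  obtain ⟨x, -, rfl⟩ := hu'
  obtain ⟨y, -, rfl⟩ := hv'
  have h1 : (QuotientGroup.mk' (powerClosure p n (commutator G))) ⁅x ^ p ^ n, y ^ p ^ n⁆ = 1 := by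
    rw [map_commutatorElement, map_pow, map_pow, commutatorElement_eq_one_iff_mul_comm]
    have h2 : ⁅((QuotientGroup.mk' (powerClosure p n (commutator G))) y) ^ p ^ n, 
        (QuotientGroup.mk' (powerClosure p n (commutator G))) x⁆ ^ p ^ n = 1 := by
      have h3 : ⁅y ^ p ^ n, x⁆ ^ p ^ n ∈ powerClosure p n (commutator G) := 
        pow_mem_powerClosure (commutator_mem_commutator (mem_top _) (mem_top _))
      rw [← map_pow, ← map_commutatorElement, ← map_pow]
      exact (QuotientGroup.eq_one_iff _).2 h3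
    exact hQ.comm_pow.1 h2
  exact (QuotientGroup.eq_one_iff _).1 h1

theorem IsRegular.commutator_powerClosure' {G : Type*} [Group G] [Finite G] (hG : IsRegularPGroup p G) (H : Subgroup G)
    (n : ℕ) : ⁅powerClosure p n H, powerClosure p n H⁆ ≤ powerClosure p n ⁅H, H⁆ := by
  have h1 := IsRegular.commutator_powerClosure (regular_of_injective hG H.subtype H.subtype_injective) n
  have h2 := Subgroup.map_mono (f := H.subtype) h1
  rw [Subgroup.map_commutator, powerClosure_map, powerClosure_map, _root_.commutator_def, Subgroup.map_commutator,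
    ← MonoidHom.range_eq_map, Subgroup.range_subtype] at h2
  exact h2

end CfsgH3
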