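import Mathlib
import Cfsg.Agent.H3.NPC2
import Cfsg.Agent.H7.Syl
import Cfsg.Agent.H3.Count

set_option autoImplicit false
open Cfsg

namespace CfsgH3.Simp

variable {G : Type*} [Group G]

theorem not_comm_of_card [Finite G] [IsSimpleGroup G] (h : ¬ (Nat.card G).Prime) : ¬ IsMulCommutative G := by
  intro hc
  letI : CommGroup G := { ‹Group G› with mul_comm := fun a b => hc.is_comm.comm a b }
  exact h IsSimpleGroup.prime_card

theorem embed_alt [Finite G] [IsSimpleGroup G] (hG : ¬ IsMulCommutative G) (H : Subgroup G) (hH : H ≠ ⊤) :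
    ∃ f : G →* ↥(alternatingGroup (Fin H.index)), Function.Injective f := by
  classical
  have hcard : Nat.card (G ⧸ H) = H.index := rfl
  let e : G ⧸ H ≃ Fin H.index := Finite.equivFinOfCardEq hcard
  let f : G →* Equiv.Perm (Fin H.index) := e.permCongrHom.toMonoidHom.comp (MulAction.toPermHom G (G ⧸ H))
  have hf : f.ker = ⊥ := by
    have h1 : f.ker = H.normalCore := by
      rw [Subgroup.normalCore_eq_ker]
      ext g
      simp only [f, MonoidHom.mem_ker, MonoidHom.coe_comp, Function.comp_apply]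
      exact e.permCongrHom.map_eq_one_iff
    rcases (Subgroup.Normal.eq_bot_or_eq_top (inferInstance : f.ker.Normal)) with h | h
    · exact h
    · exfalso
      rw [h1] at h
      exact hH (top_le_iff.1 (h ▸ H.normalCore_le))
  have hinj : Function.Injective f := (MonoidHom.ker_eq_bot_iff f).1 hf
  have hsign : ∀ g, Equiv.Perm.sign (f g) = 1 := by
    let s : G →* ℤˣ := (Equiv.Perm.sign).comp f
    rcases (Subgroup.Normal.eq_bot_or_eq_top (inferInstance : s.ker.Normal)) with h | h
    · exfalso
      apply hG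
      have hsi : Function.Injective s := (MonoidHom.ker_eq_bot_iff s).1 h
      exact ⟨⟨fun a b => hsi (by rw [map_mul, map_mul, mul_comm])⟩⟩
    · intro g
      have : g ∈ s.ker := by rw [h]; trivial
      exact this
  refine ⟨f.codRestrict (alternatingGroup (Fin H.index)) (fun g => Equiv.Perm.mem_alternatingGroup.2 (hsign g)), ?_⟩
  intro a b hab
  exact hinj (congrArg Subtype.val hab)

theorem two_card_dvd_factorial [Finite G] [IsSimpleGroup G] (hG : ¬ IsMulCommutative G) (H : Subgroup G) (hH : H ≠ ⊤) :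
    2 * Nat.card G ∣ (H.index).factorial := by
  classical
  obtain ⟨f, hf⟩ := embed_alt hG H hH
  have h1 : Nat.card G ∣ Nat.card (alternatingGroup (Fin H.index)) := Subgroup.card_dvd_of_injective f hf
  have h2 : H.index ≠ 1 := fun h => hH (Subgroup.index_eq_one.1 h)
  have h3 : H.index ≠ 0 := Subgroup.index_ne_zero_of_finite
  haveI : Nontrivial (Fin H.index) := Fin.nontrivial_iff_two_le.2 (by omega)
  have h4 := two_mul_nat_card_alternatingGroup (α := Fin H.index)
  rw [Nat.card_perm, Nat.card_fin] at h4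
  rw [← h4]
  exact Nat.mul_dvd_mul_left 2 h1

section Count
variable [Finite G] {p : ℕ} [hp : Fact p.Prime]

theorem card_orderOf (P : Sylow p G) (hP : Nat.card P = p) :
    Nat.card {g : G // orderOf g = p} = Nat.card (Sylow p G) * (p - 1) := by
  classical
  have hcard : ∀ Q : Sylow p G, Nat.card Q = p := fun Q => (Nat.card_congr (Q.equiv P).toEquiv).trans hP
  have hz : ∀ g : G, orderOf g = p → ∃! Q : Sylow p G, g ∈ Q := by
    intro g hg
    have h1 : IsPGroup p (Subgroup.zpowers g) := IsPGroup.of_card (n := 1) (by rw [Nat.card_zpowers, hg, pow_one])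
    obtain ⟨Q, hQ⟩ := h1.exists_le_sylow
    refine ⟨Q, hQ (Subgroup.mem_zpowers g), ?_⟩
    intro R hR
    have h2 : Subgroup.zpowers g ≤ R := Subgroup.zpowers_le.2 hR
    have h3 : Subgroup.zpowers g = (R : Subgroup G) := Subgroup.eq_of_le_of_card_ge h2 (by rw [Nat.card_zpowers, hg]; exact (hcard R).le)
    have h4 : Subgroup.zpowers g = (Q : Subgroup G) := Subgroup.eq_of_le_of_card_ge hQ (by rw [Nat.card_zpowers, hg]; exact (hcard Q).le)
    exact Sylow.ext (h3.symm.trans h4)
  let e : {g : G // orderOf g = p} ≃ Σ Q : Sylow p G, {g : Q // g ≠ 1} :=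
    { toFun := fun g => ⟨(hz g.1 g.2).choose, ⟨⟨g.1, (hz g.1 g.2).choose_spec.1⟩, fun h => by
        have h1 : g.1 = 1 := congrArg Subtype.val h
        have h2 := g.2
        rw [h1, orderOf_one] at h2
        exact hp.out.one_lt.ne h2⟩⟩
      invFun := fun x => ⟨x.2.1, by
        have h1 : orderOf (x.2.1 : G) ∣ p := by
          rw [Subgroup.orderOf_coe]
          exact (orderOf_dvd_natCard x.2.1).trans (hcard x.1).dvd
        rcases (Nat.dvd_prime hp.out).1 h1 with h | h
        · exact absurd (Subtype.ext (orderOf_eq_one_iff.1 h)) x.2.2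
        · exact h⟩
      left_inv := fun g => rfl
      right_inv := by
        rintro ⟨Q, ⟨⟨g, hgQ⟩, hg⟩⟩
        have ho : orderOf g = p := by
          have h1 : orderOf (g : G) ∣ p := by
            have := (orderOf_dvd_natCard (⟨g, hgQ⟩ : (Q : Subgroup G))).trans (hcard Q).dvd
            rwa [Subgroup.orderOf_mk] at this
          rcases (Nat.dvd_prime hp.out).1 h1 with h | h
          · exact absurd (Subtype.ext (orderOf_eq_one_iff.1 h)) hg
          · exact h
        have h2 : (hz g ho).choose = Q := ((hz g ho).choose_spec.2 Q hgQ).symm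
        dsimp only
        have : ∀ (R : Sylow p G) (h : R = Q) (hgR : g ∈ R) (hg' : (⟨g, hgR⟩ : R) ≠ 1), (⟨R, ⟨⟨g, hgR⟩, hg'⟩⟩ : Σ Q : Sylow p G, {g : Q // g ≠ 1}) = ⟨Q, ⟨⟨g, hgQ⟩, hg⟩⟩ := by
          rintro R rfl hgR hg'; rfl
        exact this _ h2 _ _ }
  haveI := Fintype.ofFinite (Sylow p G)
  rw [Nat.card_congr e, Nat.card_sigma]
  have h5 : ∀ Q : Sylow p G, Nat.card {g : Q // g ≠ 1} = p - 1 := by
    intro Q
    have h6 : Nat.card {g : Q // g ≠ 1} = Nat.card Q - 1 := by
      haveI := Fintype.ofFinite Q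
      have h7 : Fintype.card {g : Q // g ≠ 1} = Fintype.card Q - Fintype.card {g : Q // g = 1} := Fintype.card_subtype_compl _
      rw [Nat.card_eq_fintype_card, Nat.card_eq_fintype_card, h7, Fintype.card_subtype_eq]
    rw [h6]
    exact congrArg (· - 1) (hcard Q)
  rw [Finset.sum_congr rfl (fun Q _ => h5 Q), Finset.sum_const, smul_eq_mul, Finset.card_univ, Nat.card_eq_fintype_card]

/-- `|N(P) : C(P)|` divides `p - 1` -/
theorem relIndex_dvd (P : Sylow p G) (hP : Nat.card P = p) :
    (Subgroup.centralizer ((P : Subgroup G) : Set G)).relIndex (Subgroup.normalizer ((P : Subgroup G) : Set G)) ∣ p - 1 := by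
  have key := Subgroup.card_dvd_of_injective _ (QuotientGroup.kerLift_injective (P : Subgroup G).normalizerMonoidHom)
  rw [Subgroup.normalizerMonoidHom_ker, ← Subgroup.index, ← Subgroup.relIndex] at key
  haveI : IsCyclic P := isCyclic_of_prime_card hP
  rw [IsCyclic.card_mulAut, hP, Nat.totient_prime hp.out] at key
  exact key

theorem card_norm (P : Sylow p G) : Nat.card (Sylow p G) * Nat.card (Subgroup.normalizer ((P : Subgroup G) : Set G)) = Nat.card G := by
  rw [P.card_eq_index_normalizer]
  exact Subgroup.index_mul_card _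

theorem not_npc [IsSimpleGroup G] (hG : ¬ IsMulCommutative G) (hd : p ∣ Nat.card G) : ¬ HasNPC p G := by
  intro h
  rcases h.simple with h1 | h1
  · exact h1 hd
  · haveI : IsCyclic G := isCyclic_of_prime_card h1
    exact hG IsCyclic.isMulCommutative

theorem syl_ne_one [IsSimpleGroup G] (hG : ¬ IsMulCommutative G) (hd : p ∣ Nat.card G) : Nat.card (Sylow p G) ≠ 1 := by
  intro h
  obtain ⟨P⟩ : Nonempty (Sylow p G) := inferInstance
  haveI : Subsingleton (Sylow p G) := (Nat.card_eq_one_iff_unique.1 h).1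
  have hn : (P : Subgroup G).Normal := Sylow.normal_of_subsingleton P
  rcases hn.eq_bot_or_eq_top with h1 | h1
  · have h2 := P.not_dvd_index
    rw [h1, Subgroup.index_bot] at h2
    exact h2 hd
  · -- G is a p-group
    apply not_npc hG hd
    refine ⟨⊥, inferInstance, by simp, ?_⟩
    obtain ⟨n, hn⟩ := IsPGroup.iff_card.1 P.isPGroup'
    refine ⟨n, ?_⟩
    rw [Subgroup.index_bot, ← hn, ← Subgroup.card_top (G := G), ← h1]

theorem card_syl {a m : ℕ} (h : Nat.card G = p ^ a * m) (hm : ¬ p ∣ m) (P : Sylow p G) : Nat.card P = p ^ a := by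
  obtain ⟨b, hb⟩ := IsPGroup.iff_card.1 P.isPGroup'
  have h1 := Subgroup.card_mul_index (P : Subgroup G)
  have h2 := P.not_dvd_index
  rw [h, hb] at h1
  rw [hb]
  congr 1
  have h3 : p ^ b ∣ p ^ a := by
    have h4 : p ^ b ∣ p ^ a * m := by rw [← h1]; exact Dvd.intro _ rfl
    exact Nat.Coprime.dvd_of_dvd_mul_right (Nat.Coprime.pow_left _ ((hp.out.coprime_iff_not_dvd).2 hm)) h4
  have h5 : p ^ a ∣ p ^ b := by
    have h4 : p ^ a ∣ p ^ b * (P : Subgroup G).index := by rw [h1]; exact Dvd.intro _ rfl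
    exact Nat.Coprime.dvd_of_dvd_mul_right (Nat.Coprime.pow_left _ ((hp.out.coprime_iff_not_dvd).2 h2)) h4
  exact le_antisymm ((Nat.pow_dvd_pow_iff_le_right hp.out.one_lt).1 h3) ((Nat.pow_dvd_pow_iff_le_right hp.out.one_lt).1 h5)

theorem syl_dvd {a m : ℕ} (h : Nat.card G = p ^ a * m) (hm : ¬ p ∣ m) : Nat.card (Sylow p G) ∣ m := by
  obtain ⟨P⟩ : Nonempty (Sylow p G) := inferInstance
  have h1 := P.card_dvd_index
  have h2 := Subgroup.card_mul_index (P : Subgroup G)
  have h3 := card_syl h hm P
  rw [h] at h2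
  have h4 : p ^ a * (P : Subgroup G).index = p ^ a * m := by rw [← h2]; exact congrArg (· * _) h3.symm
  rw [Nat.eq_of_mul_eq_mul_left (pow_pos hp.out.pos a) h4] at h1
  exact h1

theorem syl_mod : Nat.card (Sylow p G) % p = 1 := by
  have h : Nat.card (Sylow p G) ≡ 1 [MOD p] := card_sylow_modEq_one p G
  rw [Nat.ModEq, Nat.mod_eq_of_lt hp.out.one_lt] at h
  exact h

theorem le_cent_of_card (P : Sylow p G) (hP : Nat.card P = p) : (P : Subgroup G) ≤ Subgroup.centralizer ((P : Subgroup G) : Set G) := by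
  haveI : IsCyclic P := isCyclic_of_prime_card hP
  intro a ha
  rw [Subgroup.mem_centralizer_iff]
  intro b hb
  haveI : IsMulCommutative (P : Subgroup G) := IsCyclic.isMulCommutative
  have := mul_comm' (⟨b, hb⟩ : (P : Subgroup G)) ⟨a, ha⟩
  exact congrArg Subtype.val this

theorem relIndex_dvd' (P : Sylow p G) (hP : Nat.card P = p) {m : ℕ} (hm : Nat.card (Subgroup.normalizer ((P : Subgroup G) : Set G)) = p * m) :
    (Subgroup.centralizer ((P : Subgroup G) : Set G)).relIndex (Subgroup.normalizer ((P : Subgroup G) : Set G)) ∣ m := by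
  have h1 : (P : Subgroup G).relIndex (Subgroup.normalizer ((P : Subgroup G) : Set G)) = m := by
    have h0 := Subgroup.relIndex_mul_relIndex ⊥ (P : Subgroup G) (Subgroup.normalizer ((P : Subgroup G) : Set G)) bot_le Subgroup.le_normalizer
    rw [Subgroup.relIndex_bot_left, Subgroup.relIndex_bot_left, hm] at h0
    have h2 : p * (P : Subgroup G).relIndex (Subgroup.normalizer ((P : Subgroup G) : Set G)) = p * m := by
      rw [← h0]; exact congrArg (· * _) hP.symm
    exact Nat.eq_of_mul_eq_mul_left hp.out.pos h2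
  rw [← h1]
  exact Subgroup.relIndex_dvd_of_le_left _ (le_cent_of_card P hP)

theorem npc_of_gcd (P : Sylow p G) (hP : Nat.card P = p) {m : ℕ} (hm : Nat.card (Subgroup.normalizer ((P : Subgroup G) : Set G)) = p * m)
    (hc : Nat.Coprime m (p - 1)) : HasNPC p G := by
  apply hasNPC_burnside P
  rw [← Subgroup.relIndex_eq_one]
  exact Nat.eq_one_of_dvd_coprimes hc (relIndex_dvd' P hP hm) (relIndex_dvd P hP)

/-- class size times centralizer order -/
theorem card_class_mul' (g : G) :
    Nat.card {h : G // ConjClasses.mk h = ConjClasses.mk g} * Nat.card (Subgroup.centralizer ({g} : Set G)) = Nat.card G := by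
  rw [← card_isConj_mul g]
  congr 1
  apply Nat.card_congr
  exact Equiv.subtypeEquivRight fun h => by
    rw [ConjClasses.mk_eq_mk_iff_isConj]; exact isConj_comm

end Count

end CfsgH3.Simp
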