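import Mathlib
import Cfsg.Prelude.Def_PLocal
import Cfsg.Agent.H3.SylNum

/-! Sylow counting in overgroups of the normalizer. -/

set_option autoImplicit false
open Subgroup

namespace CfsgH3

variable {G : Type*} [Group G] {p : ℕ}

theorem card_sylow_subgroup_eq [Finite G] [hp : Fact p.Prime] (P : Sylow p G) {M : Subgroup G}
    (hPM : (P : Subgroup G) ≤ M) :
    Nat.card (Sylow p M) = (normalizer ((P : Subgroup G) : Set G)).relIndex M := by
  have h1 := Sylow.card_eq_index_normalizer (P.subtype hPM)
  rw [h1, Subgroup.relIndex]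
  congr 1
  rw [Subgroup.subgroupOf_normalizer_eq hPM]
  rfl

/-- if `M ≥ N_G(P)`, then `|Syl(G)| = |G : M| |Syl(M)|` -/
theorem card_sylow_eq_index_mul [Finite G] [hp : Fact p.Prime] (P : Sylow p G) {M : Subgroup G}
    (h : normalizer ((P : Subgroup G) : Set G) ≤ M) :
    Nat.card (Sylow p G) = Nat.card (Sylow p M) * M.index := by
  rw [card_sylow_subgroup_eq P (le_normalizer.trans h), Subgroup.relIndex_mul_index h]
  exact Sylow.card_eq_index_normalizer P

theorem index_modEq_one_of_normalizer_le [Finite G] [hp : Fact p.Prime] (P : Sylow p G) {M : Subgroup G}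
    (h : normalizer ((P : Subgroup G) : Set G) ≤ M) : M.index ≡ 1 [MOD p] := by
  have h1 := card_sylow_eq_index_mul P h
  have h2 := card_sylow_modEq_one p G
  have h3 := card_sylow_modEq_one p M
  rw [h1] at h2
  have h4 : Nat.card (Sylow p M) * M.index ≡ 1 * M.index [MOD p] := h3.mul_right _
  rw [one_mul] at h4
  exact h4.symm.trans h2

theorem index_coprime_of_sylow_le [Finite G] [hp : Fact p.Prime] (P : Sylow p G) {M : Subgroup G}
    (h : (P : Subgroup G) ≤ M) : ¬ p ∣ M.index := fun h1 => P.not_dvd_index (h1.trans (Subgroup.index_dvd_of_le h))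

end CfsgH3
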